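import Mathlib

set_option autoImplicit false

/-!
S4613 (swarm "LT3"), generic part (helper3): automorphisms of `p'`-order fixing a Sylow `p`-subgroup
pointwise.

* `lt3q_core0`: `V` a `p`-subgroup of `G` fixed pointwise by `α`, `¬ p ∣ orderOf α`, subgroups `D i ≤ V`
  with `C_G(D i) ≤ V` and `G = ⟨N_G(D i)⟩` ⇒ `α = 1`.
* `lt3q_core`: the same data for ONE Sylow `p`-subgroup `U` gives the conclusion for EVERY Sylow
  `p`-subgroup fixed by `α` (Sylow conjugacy).
* `lt3q_quot`: the data in `X` modulo a central `p'`-subgroup `Z` (`C_X(D i) ≤ U ⊔ Z`) gives the conclusion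
  for `X ⧸ Z`.
* `lt3q_of_iso`: transport of the conclusion along `G ≃* G₀`.
-/

namespace Cfsg.Agent.LT3

open Subgroup
open scoped Pointwise

/-- the conclusion of S4613 for a group `G₀` and a prime `p`. -/
def lt3q_P (p : ℕ) (G₀ : Type*) [Group G₀] : Prop :=
  ∀ α : MulAut G₀, ¬ p ∣ orderOf α → ∀ V : Sylow p G₀, (∀ x ∈ (V : Subgroup G₀), α x = x) → α = 1

theorem lt3q_P_iff (p : ℕ) (G₀ : Type*) [Group G₀] : lt3q_P p G₀ ↔
    ∀ α : MulAut G₀, ¬ p ∣ orderOf α → ∀ V : Sylow p G₀, (∀ x ∈ (V : Subgroup G₀), α x = x) → α = 1 :=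
  Iff.rfl

/-- `α ^ k` applied to `g` when `α g = g * z` and `α z = z`. -/
theorem lt3q_pow_apply {G : Type*} [Group G] (α : MulAut G) (g z : G) (h1 : α g = g * z) (h2 : α z = z)
    (k : ℕ) : (α ^ k) g = g * z ^ k := by
  induction k with
  | zero => simp
  | succ k ih =>
    rw [pow_succ', MulAut.mul_apply, ih, map_mul, map_pow, h1, h2, pow_succ', mul_assoc]

/-- The core argument for a `p`-subgroup `V` fixed pointwise. -/
theorem lt3q_core0 {G : Type*} [Group G] (p : ℕ) [Fact p.Prime] (V : Subgroup G) (hVp : IsPGroup p V)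
    {ι : Type*} (D : ι → Subgroup G) (hDV : ∀ i, D i ≤ V)
    (hC : ∀ i, Subgroup.centralizer (D i : Set G) ≤ V)
    (hgen : ⨆ i, Subgroup.normalizer (D i : Set G) = ⊤)
    (α : MulAut G) (hα : ¬ p ∣ orderOf α) (hfix : ∀ x ∈ V, α x = x) : α = 1 := by
  have hn0 : orderOf α ≠ 0 := fun h => hα (h ▸ dvd_zero p)
  -- the fixed points of `α`
  let Fx : Subgroup G :=
    { carrier := {g | α g = g}
      mul_mem' := fun {a b} ha hb => by
        show α (a * b) = a * b
        rw [map_mul, ha, hb]
      one_mem' := map_one α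
      inv_mem' := fun {a} ha => by
        show α a⁻¹ = a⁻¹
        rw [map_inv, ha] }
  have hFx : ∀ i, Subgroup.normalizer (D i : Set G) ≤ Fx := by
    intro i g hg
    show α g = g
    set z : G := g⁻¹ * α g with hz
    have hzc : z ∈ Subgroup.centralizer (D i : Set G) := by
      rw [Subgroup.mem_centralizer_iff]
      intro d hd
      have hd' : d ∈ D i := hd
      have h1 : g * d * g⁻¹ ∈ D i := (Subgroup.mem_normalizer_iff.mp hg d).mp hd'
      have h2 : α (g * d * g⁻¹) = g * d * g⁻¹ := hfix _ (hDV i h1)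
      have h3 : α d = d := hfix _ (hDV i hd')
      rw [map_mul, map_mul, map_inv, h3] at h2
      -- α g * d * (α g)⁻¹ = g * d * g⁻¹
      have h4 : d * z = z * d := by
        rw [hz]
        have : α g * d = g * d * g⁻¹ * α g := by
          rw [← h2]; group
        calc d * (g⁻¹ * α g) = g⁻¹ * (g * d * g⁻¹ * α g) := by group
          _ = g⁻¹ * (α g * d) := by rw [this]
          _ = g⁻¹ * α g * d := by group
      exact h4
    have hzV : z ∈ V := hC i hzc
    have hαz : α z = z := hfix z hzV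
    have hαg : α g = g * z := by rw [hz]; group
    have hpow := lt3q_pow_apply α g z hαg hαz (orderOf α)
    rw [pow_orderOf_eq_one, MulAut.one_apply] at hpow
    have hz1 : z ^ orderOf α = 1 := by
      have := hpow
      calc z ^ orderOf α = g⁻¹ * (g * z ^ orderOf α) := by group
        _ = g⁻¹ * g := by rw [← this]
        _ = 1 := by group
    -- `z` is a `p`-element
    obtain ⟨k, hk⟩ := hVp ⟨z, hzV⟩
    have hk' : z ^ p ^ k = 1 := by
      have := congrArg Subtype.val hk
      simpa using this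
    have hcop : Nat.Coprime (orderOf α) (p ^ k) :=
      Nat.Coprime.pow_right k ((Nat.Prime.coprime_iff_not_dvd (Fact.out : p.Prime)).mpr hα).symm
    have hz_one : z = 1 := by
      have h5 : orderOf z ∣ orderOf α := orderOf_dvd_of_pow_eq_one hz1
      have h6 : orderOf z ∣ p ^ k := orderOf_dvd_of_pow_eq_one hk'
      have h7 : orderOf z ∣ Nat.gcd (orderOf α) (p ^ k) := Nat.dvd_gcd h5 h6
      rw [hcop] at h7
      exact orderOf_eq_one_iff.mp (Nat.dvd_one.mp h7)
    rw [hαg, hz_one, mul_one]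
  have htop : Fx = ⊤ := by
    apply top_unique
    rw [← hgen]
    exact iSup_le hFx
  ext g
  have : g ∈ Fx := by rw [htop]; exact Subgroup.mem_top g
  exact this

/-- The data for one Sylow `p`-subgroup gives the conclusion for all Sylow `p`-subgroups. -/
theorem lt3q_core {G : Type*} [Group G] [Finite G] (p : ℕ) [Fact p.Prime] (U : Sylow p G)
    {ι : Type*} (D : ι → Subgroup G) (hDU : ∀ i, D i ≤ (U : Subgroup G))
    (hC : ∀ i, Subgroup.centralizer (D i : Set G) ≤ (U : Subgroup G))
    (hgen : ⨆ i, Subgroup.normalizer (D i : Set G) = ⊤) : lt3q_P p G := by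
  intro α hα V hfix
  obtain ⟨g, hg⟩ := MulAction.exists_smul_eq G U V
  have hV : (V : Subgroup G) = (U : Subgroup G).map (MulAut.conj g).toMonoidHom := by
    rw [← hg]
    rfl
  refine lt3q_core0 p (V : Subgroup G) V.2 (fun i => (D i).map (MulAut.conj g).toMonoidHom) ?_ ?_ ?_
    α hα hfix
  · intro i
    rw [hV]
    exact Subgroup.map_mono (hDU i)
  · intro i x hx
    rw [hV]
    refine ⟨g⁻¹ * x * g, hC i ?_, by simp [MulAut.conj_apply]; group⟩
    rw [Subgroup.mem_centralizer_iff] at hx ⊢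
    intro d hd
    have hd' : g * d * g⁻¹ ∈ ((D i).map (MulAut.conj g).toMonoidHom : Set G) :=
      ⟨d, hd, by simp [MulAut.conj_apply]⟩
    have := hx _ hd'
    calc d * (g⁻¹ * x * g) = g⁻¹ * (g * d * g⁻¹ * x) * g := by group
      _ = g⁻¹ * (x * (g * d * g⁻¹)) * g := by rw [this]
      _ = g⁻¹ * x * g * d := by group
  · have h1 : ∀ i, (Subgroup.normalizer (D i : Set G)).map (MulAut.conj g).toMonoidHom ≤
        Subgroup.normalizer (((D i).map (MulAut.conj g).toMonoidHom : Subgroup G) : Set G) :=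
      fun i => Subgroup.le_normalizer_map _
    apply top_unique
    have h2 : (⊤ : Subgroup G) = (⨆ i, Subgroup.normalizer (D i : Set G)).map
        (MulAut.conj g).toMonoidHom := by
      rw [hgen]
      symm
      rw [← MonoidHom.range_eq_map]
      exact MonoidHom.range_eq_top.mpr (MulAut.conj g).surjective
    rw [h2, Subgroup.map_iSup]
    exact iSup_mono h1

/-- The quotient version: data in `X` modulo a central `p'`-subgroup `Z`. -/
theorem lt3q_quot {X : Type*} [Group X] [Finite X] (p : ℕ) [Fact p.Prime] (Z : Subgroup X) [Z.Normal]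
    (hZc : Z ≤ Subgroup.center X) (hZp : ∀ z ∈ Z, ∀ k : ℕ, z ^ p ^ k = 1 → z = 1)
    (U : Sylow p X) {ι : Type*} (D : ι → Subgroup X) (hDU : ∀ i, D i ≤ (U : Subgroup X))
    (hC : ∀ i, Subgroup.centralizer (D i : Set X) ≤ (U : Subgroup X) ⊔ Z)
    (hgen : ⨆ i, Subgroup.normalizer (D i : Set X) = ⊤) : lt3q_P p (X ⧸ Z) := by
  have hsurj : Function.Surjective (QuotientGroup.mk' Z) := QuotientGroup.mk'_surjective Z
  refine lt3q_core p (U.mapSurjective hsurj) (fun i => (D i).map (QuotientGroup.mk' Z)) ?_ ?_ ?_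
  · intro i
    rw [Sylow.coe_mapSurjective]
    exact Subgroup.map_mono (hDU i)
  · intro i y hy
    rw [Sylow.coe_mapSurjective]
    obtain ⟨g, rfl⟩ := hsurj y
    -- `[g, d] ∈ Z` for all `d ∈ D i`
    have hgd : ∀ d ∈ D i, g * d * g⁻¹ * d⁻¹ ∈ Z := by
      intro d hd
      have hd' : (QuotientGroup.mk' Z) d ∈ ((D i).map (QuotientGroup.mk' Z) : Set (X ⧸ Z)) :=
        ⟨d, hd, rfl⟩
      have h1 := (Subgroup.mem_centralizer_iff.mp hy) _ hd'
      -- mk d * mk g = mk g * mk d
      have h2 : (QuotientGroup.mk' Z) (g * d * g⁻¹ * d⁻¹) = 1 := by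
        rw [map_mul, map_mul, map_mul, map_inv, map_inv, ← h1]
        group
      exact (QuotientGroup.eq_one_iff _).mp h2
    -- `d ↦ [g, d]` is multiplicative, so `[g, d] ^ k = [g, d ^ k]`
    have hpow : ∀ d ∈ D i, ∀ k : ℕ, (g * d * g⁻¹ * d⁻¹) ^ k = g * d ^ k * g⁻¹ * (d ^ k)⁻¹ := by
      intro d hd k
      induction k with
      | zero => simp
      | succ k ih =>
        have hcen : ∀ x : X, (g * d * g⁻¹ * d⁻¹) * x = x * (g * d * g⁻¹ * d⁻¹) := fun x =>
          ((Subgroup.mem_center_iff.mp (hZc (hgd d hd))) x).symm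
        rw [pow_succ, ih, pow_succ]
        calc g * d ^ k * g⁻¹ * (d ^ k)⁻¹ * (g * d * g⁻¹ * d⁻¹)
            = g * d ^ k * g⁻¹ * ((g * d * g⁻¹ * d⁻¹) * (d ^ k)⁻¹) := by rw [hcen]; group
          _ = g * (d ^ k * d) * g⁻¹ * (d ^ k * d)⁻¹ := by group
    have hgc : g ∈ Subgroup.centralizer (D i : Set X) := by
      rw [Subgroup.mem_centralizer_iff]
      intro d hd
      have hd' : d ∈ D i := hd
      obtain ⟨k, hk⟩ := U.2 ⟨d, hDU i hd'⟩
      have hk' : d ^ p ^ k = 1 := by
        have := congrArg Subtype.val hk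
        simpa using this
      have h1 : (g * d * g⁻¹ * d⁻¹) ^ p ^ k = 1 := by
        rw [hpow d hd', hk']
        group
      have h2 := hZp _ (hgd d hd') k h1
      calc d * g = (g * d * g⁻¹ * d⁻¹)⁻¹ * (g * d) := by group
        _ = g * d := by rw [h2]; group
    have h3 := hC i hgc
    have h4 : (QuotientGroup.mk' Z) g ∈ ((U : Subgroup X) ⊔ Z).map (QuotientGroup.mk' Z) :=
      ⟨g, h3, rfl⟩
    rw [Subgroup.map_sup] at h4
    have h5 : Z.map (QuotientGroup.mk' Z) = ⊥ :=
      (Subgroup.map_eq_bot_iff _).mpr (by rw [QuotientGroup.ker_mk'])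
    rw [h5, sup_bot_eq] at h4
    exact h4
  · have h1 : ∀ i, (Subgroup.normalizer (D i : Set X)).map (QuotientGroup.mk' Z) ≤
        Subgroup.normalizer (((D i).map (QuotientGroup.mk' Z) : Subgroup (X ⧸ Z)) : Set (X ⧸ Z)) :=
      fun i => Subgroup.le_normalizer_map _
    apply top_unique
    have h2 : (⊤ : Subgroup (X ⧸ Z)) = (⨆ i, Subgroup.normalizer (D i : Set X)).map
        (QuotientGroup.mk' Z) := by
      rw [hgen]
      symm
      rw [← MonoidHom.range_eq_map]
      exact MonoidHom.range_eq_top.mpr hsurj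
    rw [h2, Subgroup.map_iSup]
    exact iSup_mono h1

/-- Transport along an isomorphism. -/
theorem lt3q_of_iso {G G₀ : Type*} [Group G] [Group G₀] (p : ℕ) [Fact p.Prime] (e : G ≃* G₀)
    (h : lt3q_P p G₀) : lt3q_P p G := by
  intro α hα U hfix
  have hinj : Function.Injective (MulAut.congr e) := (MulAut.congr e).injective
  have hord : orderOf (MulAut.congr e α) = orderOf α :=
    orderOf_injective (MulAut.congr e).toMonoidHom hinj α
  have hV : (U : Subgroup G) ≤ (e.symm.toMonoidHom).range := by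
    intro x _
    exact ⟨e x, by simp⟩
  have hsinj : Function.Injective e.symm.toMonoidHom := e.symm.injective
  have key := h (MulAut.congr e α) (by rw [hord]; exact hα)
    (U.comapOfInjective e.symm.toMonoidHom hsinj hV) (by
      intro x hx
      rw [Sylow.coe_comapOfInjective, Subgroup.mem_comap] at hx
      have := hfix _ hx
      show e (α (e.symm x)) = x
      have h2 : α (e.symm x) = e.symm x := this
      rw [h2]
      simp)
  apply hinj
  rw [key, map_one]

end Cfsg.Agent.LT3
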