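import Mathlib
import Cfsg.Agent.Helper7.BNParabolic

set_option autoImplicit false
set_option linter.unusedSectionVars false
set_option linter.unusedVariables false

/-!
S4613 (swarm LT3), generic BN-pair theorem, last part:

* `lt3f_rep_fixed`, `lt3f_all_cosets`: the induction on the length (step (3)): if the automorphism `α`
  maps `B` into `B`, fixes `U` pointwise (`B = U·T`), fixes the cosets `sB`, `s ∈ S`, and satisfies the
  key lemma (L) (`α g ∈ U g B ⇒ α g ∈ g B`), then `α g ∈ g B` for every `g`.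
* `lt3f_eq_one_of_cosets`: step (4): then `α = 1` as soon as the normal core of `B` is trivial.
* `lt3f_bnMap`: the image of a BN-pair under a surjective homomorphism whose kernel lies in `B`.
-/

namespace Cfsg.Agent.LT3

open Cfsg Cfsg.Agent.Helper7.BN Cfsg.Agent.Helper7.InvWords DoubleCoset
open scoped Pointwise

section induction

variable {G : Type*} [Group G] (P : Cfsg.BNPair G)

/-- `B n B = U n B` for `n ∈ N`, as `B = U T` and `N` normalises `T`. -/
theorem lt3f_C_eq (U : Subgroup G)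
    (hUT : ∀ b ∈ P.B, ∃ u ∈ U, ∃ t ∈ P.B ⊓ P.N, b = u * t) {n x : G} (hn : n ∈ P.N)
    (hx : x ∈ C P n) : ∃ u ∈ U, ∃ b ∈ P.B, x = u * n * b := by
  obtain ⟨b1, hb1, b2, hb2, rfl⟩ := (mem_C P).mp hx
  obtain ⟨u, hu, t, ht, rfl⟩ := hUT b1 hb1
  refine ⟨u, hu, (n⁻¹ * t * n) * b2, P.B.mul_mem (conj_mem_T' P hn ht).1 hb2, ?_⟩
  group

/-- Step (3), for the representatives in `N`, by induction on the length. -/
theorem lt3f_rep_fixed (U : Subgroup G)
    (hUT : ∀ b ∈ P.B, ∃ u ∈ U, ∃ t ∈ P.B ⊓ P.N, b = u * t)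
    (α : MulAut G) (hαB : ∀ b ∈ P.B, α b ∈ P.B)
    (hL : ∀ g u b : G, u ∈ U → b ∈ P.B → α g = u * g * b → g⁻¹ * α g ∈ P.B)
    (hS : ∀ s ∈ P.S, s⁻¹ * α s ∈ P.B) :
    ∀ (q : ℕ) (n : P.N), len (RS P) (proj P n) = q → (n : G)⁻¹ * α (n : G) ∈ P.B := by
  intro q
  induction q with
  | zero =>
    intro n hn
    have hw1 : proj P n = 1 := (len_eq_zero_iff (invol_RS P) (mem_closure_RS P _)).mp hn
    have hnB : (n : G) ∈ P.B := (proj_eq_one_iff P).mp hw1
    exact P.B.mul_mem (P.B.inv_mem hnB) (hαB _ hnB)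
  | succ q ih =>
    intro n hn
    obtain ⟨r, hr, w'', _, hlen, hw⟩ := exists_left_decomp (invol_RS P) (mem_closure_RS P _) hn
    obtain ⟨s, hsS, hsN, hsr, hCs⟩ := exists_rep_of_mem_RS P hr
    set n' : P.N := ⟨s, hsN⟩⁻¹ * n with hn'
    have hpn' : proj P n' = w'' := by
      rw [hn', map_mul, map_inv, hsr, hw, ← mul_assoc, inv_mul_cancel, one_mul]
    have ih' := ih n' (by rw [hpn']; exact hlen)
    have e : (n : G) = s * (n' : G) := by
      simp only [hn', Subgroup.coe_mul, Subgroup.coe_inv]; group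
    -- `α n = (s b₁) (n' b₂)`
    have hαn : α (n : G) = (s * (s⁻¹ * α s)) * ((n' : G) * ((n' : G)⁻¹ * α (n' : G))) := by
      rw [e, map_mul]; group
    have h1 : s * (s⁻¹ * α s) ∈ CW P r := by
      rw [hCs]; exact mul_mem_C_right P (hS s hsS) (self_mem_C P s)
    have h2 : (n' : G) * ((n' : G)⁻¹ * α (n' : G)) ∈ CW P w'' := by
      rw [← hpn', CW_proj]; exact mul_mem_C_right P ih' (self_mem_C P _)
    have hgood : Good P r w'' := by
      apply good_of_le P hr
      rw [← hw, hn, hlen]; omega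
    have h3 : α (n : G) ∈ C P (n : G) := by
      rw [hαn, ← CW_proj, hw]
      exact hgood _ h1 _ h2
    obtain ⟨u, hu, b, hb, hub⟩ := lt3f_C_eq P U hUT n.2 h3
    exact hL _ u b hu hb hub

/-- Step (3): `α g ∈ g B` for every `g`. -/
theorem lt3f_all_cosets (U : Subgroup G)
    (hUT : ∀ b ∈ P.B, ∃ u ∈ U, ∃ t ∈ P.B ⊓ P.N, b = u * t)
    (α : MulAut G) (hαB : ∀ b ∈ P.B, α b ∈ P.B) (hαU : ∀ u ∈ U, α u = u)
    (hL : ∀ g u b : G, u ∈ U → b ∈ P.B → α g = u * g * b → g⁻¹ * α g ∈ P.B)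
    (hS : ∀ s ∈ P.S, s⁻¹ * α s ∈ P.B) :
    ∀ g : G, g⁻¹ * α g ∈ P.B := by
  intro g
  obtain ⟨n, hn, hg⟩ := bruhat_exists P g
  obtain ⟨u, hu, b, hb, rfl⟩ := lt3f_C_eq P U hUT hn hg
  have hrep := lt3f_rep_fixed P U hUT α hαB hL hS _ ⟨n, hn⟩ rfl
  have e : (u * n * b)⁻¹ * α (u * n * b) = b⁻¹ * ((n⁻¹ * α n) * α b) := by
    rw [map_mul, map_mul, hαU u hu]; group
  rw [e]
  exact P.B.mul_mem (P.B.inv_mem hb) (P.B.mul_mem hrep (hαB b hb))

end induction

section core

variable {G : Type*} [Group G]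

/-- Step (4): an automorphism moving every element inside its coset of `B` is trivial when the
normal core of `B` is trivial. -/
theorem lt3f_eq_one_of_cosets (B : Subgroup G)
    (hcore : ∀ x : G, (∀ y : G, y * x * y⁻¹ ∈ B) → x = 1) (α : MulAut G)
    (h : ∀ g : G, g⁻¹ * α g ∈ B) : α = 1 := by
  ext g
  have hz : g⁻¹ * α g = 1 := by
    apply hcore
    intro y
    have e : y * (g⁻¹ * α g) * y⁻¹ = ((g * y⁻¹)⁻¹ * α (g * y⁻¹)) * ((y⁻¹)⁻¹ * α y⁻¹)⁻¹ := by
      rw [map_mul, map_inv]; group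
    rw [e]
    exact B.mul_mem (h _) (B.inv_mem (h _))
  rw [MulAut.one_apply]
  calc α g = g * (g⁻¹ * α g) := by group
    _ = g := by rw [hz, mul_one]

/-- The core hypothesis in a simple group, for a proper subgroup. -/
theorem lt3f_core_of_simple [IsSimpleGroup G] (B : Subgroup G) (hB : B ≠ ⊤) :
    ∀ x : G, (∀ y : G, y * x * y⁻¹ ∈ B) → x = 1 := by
  intro x hx
  have hmem : x ∈ B.normalCore := by
    rw [Subgroup.normalCore]
    exact hx
  rcases (B.normalCore_normal).eq_bot_or_eq_top with h | h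
  · rw [h, Subgroup.mem_bot] at hmem
    exact hmem
  · exfalso
    apply hB
    rw [eq_top_iff, ← h]
    exact B.normalCore_le

end core

section map

variable {X G : Type*} [Group X] [Group G] (P : Cfsg.BNPair X) (π : X →* G)

/-- membership in the image of `B` is membership in `B`, when the kernel lies in `B`. -/
theorem lt3f_map_mem_B (hker : π.ker ≤ P.B) {x : X} : π x ∈ P.B.map π ↔ x ∈ P.B := by
  constructor
  · rintro ⟨b, hb, hbx⟩
    have hk : b⁻¹ * x ∈ π.ker := by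
      rw [MonoidHom.mem_ker, map_mul, map_inv, hbx, inv_mul_cancel]
    have : x = b * (b⁻¹ * x) := by group
    rw [this]
    exact P.B.mul_mem hb (hker hk)
  · intro hx
    exact Subgroup.mem_map_of_mem π hx

/-- the image of `T = B ⊓ N`. -/
theorem lt3f_map_T (hker : π.ker ≤ P.B) : P.B.map π ⊓ P.N.map π = (P.B ⊓ P.N).map π := by
  apply le_antisymm
  · rintro y ⟨hyB, n, hn, rfl⟩
    have hnB : n ∈ P.B := (lt3f_map_mem_B P π hker).mp hyB
    exact Subgroup.mem_map_of_mem π (Subgroup.mem_inf.mpr ⟨hnB, hn⟩)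
  · exact le_inf (Subgroup.map_mono inf_le_left) (Subgroup.map_mono inf_le_right)

/-- the image of a double coset. -/
theorem lt3f_map_doubleCoset {x y : X} (h : x ∈ doubleCoset y (P.B : Set X) P.B) :
    π x ∈ doubleCoset (π y) ((P.B.map π : Subgroup G) : Set G) (P.B.map π : Subgroup G) := by
  rw [mem_doubleCoset] at h ⊢
  obtain ⟨b, hb, b', hb', rfl⟩ := h
  exact ⟨π b, Subgroup.mem_map_of_mem π hb, π b', Subgroup.mem_map_of_mem π hb', by
    rw [map_mul, map_mul]⟩

/-- The image of a BN-pair under a surjective homomorphism whose kernel lies in `B`. -/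
def lt3f_bnMap (hπ : Function.Surjective π) (hker : π.ker ≤ P.B) : Cfsg.BNPair G where
  B := P.B.map π
  N := P.N.map π
  S := π '' P.S
  sup_eq_top := by
    rw [← Subgroup.map_sup, P.sup_eq_top, ← MonoidHom.range_eq_map, MonoidHom.range_eq_top.mpr hπ]
  conj_mem := by
    rintro _ ⟨n, hn, rfl⟩ t ht
    rw [lt3f_map_T P π hker] at ht
    obtain ⟨t₀, ht₀, rfl⟩ := ht
    have := P.conj_mem n hn t₀ ht₀
    have e : π n * π t₀ * (π n)⁻¹ = π (n * t₀ * n⁻¹) := by
      rw [map_mul, map_mul, map_inv]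
    rw [e]
    exact Subgroup.mem_map_of_mem π this
  subset := by
    rintro _ ⟨s, hs, rfl⟩
    exact Subgroup.mem_map_of_mem π (P.subset hs)
  sq_mem := by
    rintro _ ⟨s, hs, rfl⟩
    rw [← map_mul]
    exact Subgroup.mem_map_of_mem π (P.sq_mem s hs)
  inj := by
    rintro _ ⟨s, hs, rfl⟩ _ ⟨s', hs', rfl⟩ h
    have h' : π (s⁻¹ * s') ∈ P.B.map π := by
      rw [map_mul, map_inv]; exact h
    rw [lt3f_map_mem_B P π hker] at h'
    rw [P.inj s hs s' hs' h']
  closure_sup := by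
    rw [lt3f_map_T P π hker, ← MonoidHom.map_closure, ← Subgroup.map_sup, P.closure_sup]
  mul_mem_union := by
    rintro _ ⟨s, hs, rfl⟩ _ ⟨n, hn, rfl⟩ _ ⟨b, hb, rfl⟩
    have h := P.mul_mem_union s hs n hn b hb
    have e1 : π s * π b * π n = π (s * b * n) := by rw [map_mul, map_mul]
    have e2 : π s * π n = π (s * n) := by rw [map_mul]
    rw [e1, e2]
    rcases h with h | h
    · exact Or.inl (lt3f_map_doubleCoset P π h)
    · exact Or.inr (lt3f_map_doubleCoset P π h)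
  conj_ne := by
    rintro _ ⟨s, hs, rfl⟩ heq
    apply P.conj_ne s hs
    -- `s b s ∈ B` for all `b ∈ B`
    have h1 : ∀ b ∈ P.B, s * b * s ∈ P.B := by
      intro b hb
      have : π s * π b * π s ∈ ((P.B.map π : Subgroup G) : Set G) := by
        rw [← heq]
        exact ⟨π b, Subgroup.mem_map_of_mem π hb, rfl⟩
      rw [← map_mul, ← map_mul] at this
      exact (lt3f_map_mem_B P π hker).mp this
    have hss : s * s ∈ P.B := P.sq_mem s hs
    -- `s⁻¹ b s⁻¹ ∈ B`
    have h2 : ∀ b ∈ P.B, s⁻¹ * b * s⁻¹ ∈ P.B := by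
      intro b hb
      have h3 := h1 ((s * s)⁻¹ * b * (s * s)⁻¹)
        (P.B.mul_mem (P.B.mul_mem (P.B.inv_mem hss) hb) (P.B.inv_mem hss))
      have e : s * ((s * s)⁻¹ * b * (s * s)⁻¹) * s = s⁻¹ * b * s⁻¹ := by group
      rwa [e] at h3
    ext x
    constructor
    · rintro ⟨b, hb, rfl⟩
      exact h1 b hb
    · intro hx
      exact ⟨s⁻¹ * x * s⁻¹, h2 x hx, by group⟩

@[simp] theorem lt3f_bnMap_B (hπ : Function.Surjective π) (hker : π.ker ≤ P.B) :
    (lt3f_bnMap P π hπ hker).B = P.B.map π := rfl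

@[simp] theorem lt3f_bnMap_N (hπ : Function.Surjective π) (hker : π.ker ≤ P.B) :
    (lt3f_bnMap P π hπ hker).N = P.N.map π := rfl

@[simp] theorem lt3f_bnMap_S (hπ : Function.Surjective π) (hker : π.ker ≤ P.B) :
    (lt3f_bnMap P π hπ hker).S = π '' P.S := rfl

end map

end Cfsg.Agent.LT3
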