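import Mathlib

set_option autoImplicit false

/-!
Generic lemmas for automorphisms of order prime to `p` fixing a `p`-subgroup pointwise:
the orbit lemma (L) and the final step (core of `B` trivial).
-/

namespace Cfsg.Agent.LT3

variable {G : Type*} [Group G]

/-- iterating `α g = u * g * b` (with `α u = u` and `α B ⊆ B`): `α^k g = u^k * g * b_k`. -/
theorem lt3bn_iter (α : MulAut G) (B : Subgroup G) (hB : ∀ b ∈ B, α b ∈ B) (g u b : G)
    (hu : α u = u) (hb : b ∈ B) (hg : α g = u * g * b) (k : ℕ) :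
    ∃ c ∈ B, (α ^ k) g = u ^ k * g * c := by
  induction k with
  | zero => exact ⟨1, B.one_mem, by simp⟩
  | succ k ih =>
    obtain ⟨c, hc, e⟩ := ih
    refine ⟨b * α c, B.mul_mem hb (hB c hc), ?_⟩
    rw [pow_succ', MulAut.mul_apply, e, map_mul, map_mul, map_pow, hu, hg, pow_succ]
    group

/-- (L) if `α g ∈ U g B` then `α g ∈ g B`, for a `p'`-automorphism `α` fixing the `p`-group `U`
pointwise and stabilising `B`. -/
theorem lt3bn_L (p : ℕ) [hp : Fact p.Prime] (α : MulAut G) (hα : ¬ p ∣ orderOf α)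
    (U B : Subgroup G) (hU : IsPGroup p U) (hfix : ∀ u ∈ U, α u = u) (hB : ∀ b ∈ B, α b ∈ B)
    (g u b : G) (hu : u ∈ U) (hb : b ∈ B) (hg : α g = u * g * b) : g⁻¹ * α g ∈ B := by
  obtain ⟨c, hc, e⟩ := lt3bn_iter α B hB g u b (hfix u hu) hb hg (orderOf α)
  rw [pow_orderOf_eq_one, MulAut.one_apply] at e
  have h1 : u ^ orderOf α = g * c⁻¹ * g⁻¹ := by
    calc u ^ orderOf α = (u ^ orderOf α * g * c) * c⁻¹ * g⁻¹ := by group
      _ = g * c⁻¹ * g⁻¹ := by rw [← e]
  obtain ⟨n, hn⟩ := hU ⟨u, hu⟩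
  have hord : orderOf u ∣ p ^ n := by
    apply orderOf_dvd_of_pow_eq_one
    have := congrArg Subtype.val hn
    simpa using this
  have hcop : Nat.Coprime (orderOf α) (orderOf u) := by
    have h0 : Nat.Coprime p (orderOf α) := (Nat.Prime.coprime_iff_not_dvd hp.out).mpr hα
    exact Nat.Coprime.coprime_dvd_right hord (Nat.Coprime.pow_right n h0.symm)
  obtain ⟨m, hm⟩ := exists_pow_eq_self_of_coprime hcop
  rw [h1, conj_pow] at hm
  have e2 : g⁻¹ * α g = (c⁻¹) ^ m * b := by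
    rw [hg]
    conv_lhs => rw [← hm]
    group
  rw [e2]
  exact B.mul_mem (B.pow_mem (B.inv_mem hc) m) hb

/-- final step: if `g⁻¹ α(g) ∈ B` for all `g` and `B` contains no nontrivial normal subgroup,
then `α = 1`. -/
theorem lt3bn_final (α : MulAut G) (B : Subgroup G)
    (hcore : ∀ K : Subgroup G, K.Normal → K ≤ B → K = ⊥)
    (h : ∀ g, g⁻¹ * α g ∈ B) : α = 1 := by
  have hK : B.normalCore = ⊥ := hcore _ inferInstance (Subgroup.normalCore_le B)
  ext g
  rw [MulAut.one_apply]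
  have hmem : g⁻¹ * α g ∈ B.normalCore := by
    intro x
    have e : x * (g⁻¹ * α g) * x⁻¹ = ((g * x⁻¹)⁻¹ * α (g * x⁻¹)) * ((x⁻¹)⁻¹ * α x⁻¹)⁻¹ := by
      rw [map_mul]; group
    rw [e]
    exact B.mul_mem (h _) (B.inv_mem (h _))
  rw [hK, Subgroup.mem_bot] at hmem
  exact (inv_mul_eq_one.mp hmem).symm

end Cfsg.Agent.LT3
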