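import Mathlib
import Cfsg.Agent.Helper7.BNAut
import Cfsg.Agent.LT3.BNa

set_option autoImplicit false

/-!
Split BN-pairs: `B = U (B ∩ N)` with `U ⊴ B` a `p`-group containing the `p`-elements of `B`.
Cells are `U`-orbits modulo `B`, `N_G(U) = B`, and automorphisms fixing `U` pointwise stabilise `B`.
-/

namespace Cfsg.Agent.LT3

open Cfsg Cfsg.Agent.Helper7.BN Cfsg.Agent.Helper7.InvWords

variable {G : Type*} [Group G]

/-- split BN-pair: `U ≤ B` normalised by `B`, `B = U (B ∩ N)`, `U` a `p`-group containing every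
`p`-element of `B`. -/
structure lt3bn_Split (p : ℕ) (P : Cfsg.BNPair G) (U : Subgroup G) : Prop where
  isP : IsPGroup p U
  le : U ≤ P.B
  norm : ∀ b ∈ P.B, ∀ u ∈ U, b * u * b⁻¹ ∈ U
  split : ∀ b ∈ P.B, ∃ u ∈ U, ∃ t ∈ P.B ⊓ P.N, b = u * t
  pel : ∀ b ∈ P.B, ∀ k : ℕ, b ^ p ^ k = 1 → b ∈ U

variable {p : ℕ} {P : Cfsg.BNPair G} {U : Subgroup G}

theorem lt3bn_conj_mem_iff (h : lt3bn_Split p P U) {b : G} (hb : b ∈ P.B) (u : G) :
    b * u * b⁻¹ ∈ U ↔ u ∈ U := by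
  constructor
  · intro hu
    have := h.norm b⁻¹ (P.B.inv_mem hb) _ hu
    have e : b⁻¹ * (b * u * b⁻¹) * b⁻¹⁻¹ = u := by group
    rwa [e] at this
  · exact h.norm b hb u

theorem lt3bn_conj_mem_iff' (h : lt3bn_Split p P U) {b : G} (hb : b ∈ P.B) (u : G) :
    b⁻¹ * u * b ∈ U ↔ u ∈ U := by
  have := lt3bn_conj_mem_iff h (P.B.inv_mem hb) u
  rwa [inv_inv] at this

/-- `B n B = U n B` for `n ∈ N` -/
theorem lt3bn_cell (h : lt3bn_Split p P U) {n : G} (hn : n ∈ P.N) {g : G} (hg : g ∈ C P n) :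
    ∃ u ∈ U, ∃ b ∈ P.B, g = u * n * b := by
  obtain ⟨b1, hb1, b2, hb2, rfl⟩ := (mem_C P).mp hg
  obtain ⟨u, hu, t, ht, rfl⟩ := h.split b1 hb1
  refine ⟨u, hu, (n⁻¹ * t * n) * b2, ?_, by group⟩
  exact P.B.mul_mem (conj_mem_T' P hn ht).1 hb2

/-- each cell `C(w)` is a single `U × B`-orbit -/
theorem lt3bn_cell_orbit (h : lt3bn_Split p P U) {w : W P} {g g' : G} (hg : g ∈ CW P w)
    (hg' : g' ∈ CW P w) : ∃ u ∈ U, ∃ b ∈ P.B, g' = u * g * b := by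
  obtain ⟨n, rfl⟩ := proj_surjective P w
  rw [CW_proj] at hg hg'
  obtain ⟨u1, hu1, b1, hb1, rfl⟩ := lt3bn_cell h n.2 hg
  obtain ⟨u2, hu2, b2, hb2, rfl⟩ := lt3bn_cell h n.2 hg'
  exact ⟨u2 * u1⁻¹, U.mul_mem hu2 (U.inv_mem hu1), b1⁻¹ * b2,
    P.B.mul_mem (P.B.inv_mem hb1) hb2, by group⟩

/-- `N_G(U) ≤ B` -/
theorem lt3bn_normalizer_le (h : lt3bn_Split p P U) {g : G} (hg : ∀ u, u ∈ U ↔ g * u * g⁻¹ ∈ U) :
    g ∈ P.B := by
  obtain ⟨n, hn, hgn⟩ := bruhat_exists P g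
  obtain ⟨b1, hb1, b2, hb2, rfl⟩ := (mem_C P).mp hgn
  -- `n` normalises `U`
  have hnU : ∀ u ∈ U, n * u * n⁻¹ ∈ U := by
    intro u hu
    have h1 : b2⁻¹ * u * b2 ∈ U := (lt3bn_conj_mem_iff' h hb2 u).mpr hu
    have h2 := (hg _).mp h1
    have h3 := (lt3bn_conj_mem_iff' h hb1 _).mpr h2
    have e : b1⁻¹ * (b1 * n * b2 * (b2⁻¹ * u * b2) * (b1 * n * b2)⁻¹) * b1 = n * u * n⁻¹ := by group
    rwa [e] at h3
  -- `n` normalises `B`
  have hnB : ∀ b ∈ P.B, n * b * n⁻¹ ∈ P.B := by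
    intro b hb
    obtain ⟨u, hu, t, ht, rfl⟩ := h.split b hb
    have e : n * (u * t) * n⁻¹ = (n * u * n⁻¹) * (n * t * n⁻¹) := by group
    rw [e]
    exact P.B.mul_mem (h.le (hnU u hu)) (conj_mem_T P hn ht).1
  have hnmem : n ∈ P.B := mem_of_conj_B_le P (le_refl _) hnB
  exact P.B.mul_mem (P.B.mul_mem hb1 hnmem) hb2

theorem lt3bn_aut_B_aux (h : lt3bn_Split p P U) (α : MulAut G) (hfix : ∀ u ∈ U, α u = u) (x : G)
    (hx : x ∈ P.B) : α x ∈ P.B := by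
  apply lt3bn_normalizer_le h
  intro u
  constructor
  · intro hu
    have h1 : x * u * x⁻¹ ∈ U := h.norm x hx u hu
    have h2 := hfix _ h1
    rw [map_mul, map_mul, map_inv, hfix u hu] at h2
    rw [h2]; exact h1
  · intro hu
    have h1 : x⁻¹ * (α x * u * (α x)⁻¹) * x ∈ U := (lt3bn_conj_mem_iff' h hx _).mpr hu
    have h2 := hfix _ h1
    rw [map_mul, map_mul, map_inv, hfix _ hu] at h2
    have e : (α x)⁻¹ * (α x * u * (α x)⁻¹) * α x = u := by group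
    rw [e] at h2
    rw [h2]; exact h1

/-- an automorphism fixing `U` pointwise stabilises `B = N_G(U)` -/
theorem lt3bn_aut_B (h : lt3bn_Split p P U) (α : MulAut G) (hfix : ∀ u ∈ U, α u = u) (x : G) :
    x ∈ P.B ↔ α x ∈ P.B := by
  constructor
  · exact lt3bn_aut_B_aux h α hfix x
  · intro hx
    have hfix' : ∀ u ∈ U, α⁻¹ u = u := by
      intro u hu
      have := hfix u hu
      rw [MulAut.inv_apply, MulEquiv.symm_apply_eq]
      exact this.symm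
    have := lt3bn_aut_B_aux h α⁻¹ hfix' (α x) hx
    rwa [MulAut.inv_apply, MulEquiv.symm_apply_apply] at this

end Cfsg.Agent.LT3
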