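import Mathlib
import Cfsg.Agent.Helper7.BNAut
import Cfsg.Agent.Helper7.BNSimple
import Cfsg.Agent.LT3.BNb

set_option autoImplicit false

/-!
Step (2) of the generic theorem: an automorphism fixing `U` pointwise stabilises each double coset
`B s B`, `s ∈ S`.
-/

namespace Cfsg.Agent.LT3

open Cfsg Cfsg.Agent.Helper7.BN Cfsg.Agent.Helper7.InvWords

variable {G : Type*} [Group G] {p : ℕ} {P : Cfsg.BNPair G} {U : Subgroup G}

/-- a reflection cell is not a single left coset -/
theorem lt3bn_cell_two {r : W P} (hr : r ∈ RS P) (x : G) :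
    ∃ y ∈ CW P r, x⁻¹ * y ∉ P.B := by
  by_contra hcon
  have hall : ∀ y ∈ CW P r, x⁻¹ * y ∈ P.B := by
    intro y hy
    by_contra h
    exact hcon ⟨y, hy, h⟩
  obtain ⟨a, ha, b, hb, hab⟩ := exists_mul_mem_CW_self P hr
  have h1 := hall a ha
  have h2 := hall _ hab
  have hbB : b ∈ P.B := by
    have e : b = (x⁻¹ * a)⁻¹ * (x⁻¹ * (a * b)) := by group
    rw [e]
    exact P.B.mul_mem (P.B.inv_mem h1) h2
  have hb1 : b ∈ CW P 1 := by rw [CW_one]; exact hbB
  exact RS_ne_one P hr (eq_of_mem_CW P hb hb1)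

theorem lt3bn_step2 (h : lt3bn_Split p P U) (α : MulAut G) (hfix : ∀ u ∈ U, α u = u)
    {s : G} (hs : s ∈ P.S) : α s ∈ C P s := by
  have hB := lt3bn_aut_B h α hfix
  obtain ⟨s', hs', hpar⟩ := exists_parabolic_map P α hB hs
  have hsB : s ∉ P.B := S_not_mem_B P hs
  have hxB : α s ∉ P.B := fun hx => hsB ((hB s).mpr hx)
  have hxpar : α s ∈ P.parabolic {s'} := (hpar s).mp (mem_parabolic_of_mem P rfl)
  have hxC : α s ∈ C P s' := by
    rcases (mem_parabolic_singleton P hs' _).mp hxpar with h1 | h1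
    · exact absurd h1 hxB
    · exact h1
  by_cases hss : s' = s
  · rw [hss] at hxC; exact hxC
  exfalso
  set x := α s with hx
  -- the reflections
  set r : W P := proj P ⟨s, S_mem_N P hs⟩ with hrdef
  set r' : W P := proj P ⟨s', S_mem_N P hs'⟩ with hr'def
  have hr : r ∈ RS P := mem_Rset_of_mem P hs (S_mem_N P hs)
  have hr' : r' ∈ RS P := mem_Rset_of_mem P hs' (S_mem_N P hs')
  have hne : r' ≠ r := by
    intro e
    rw [hrdef, hr'def, proj_eq_iff] at e
    exact hss (P.inj s' hs' s hs e)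
  have hCr : CW P r = C P s := CW_proj P ⟨s, S_mem_N P hs⟩
  have hCr' : CW P r' = C P s' := CW_proj P ⟨s', S_mem_N P hs'⟩
  have hgood : Good P r r' := good_of_le P hr (len_le_len_mul_of_ne P hr' hr hne)
  -- (a)
  obtain ⟨y, hy, hxy⟩ := lt3bn_cell_two hr' x
  -- (b)
  have hsr : s ∈ CW P r := by rw [hCr]; exact self_mem_C P s
  have hxr' : x ∈ CW P r' := by rw [hCr']; exact hxC
  have hz : s * x ∈ CW P (r * r') := hgood s hsr x hxr'
  have hz' : s * y ∈ CW P (r * r') := hgood s hsr y hy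
  obtain ⟨u, hu, b, hb, e⟩ := lt3bn_cell_orbit h hz hz'
  set u' := s⁻¹ * u * s with hu'
  have e1 : u' = y * b⁻¹ * x⁻¹ := by
    have : y = s⁻¹ * (s * y) := by group
    rw [this, e, hu']; group
  have hpar_s : u' ∈ P.parabolic {s} := by
    have hs1 : s ∈ P.parabolic {s} := mem_parabolic_of_mem P rfl
    exact mul_mem (mul_mem (inv_mem hs1) (B_le_parabolic P _ (h.le hu))) hs1
  have hpar_s' : u' ∈ P.parabolic {s'} := by
    rw [e1]
    have hy1 : y ∈ P.parabolic {s'} := (mem_parabolic_singleton P hs' y).mpr (Or.inr (hCr' ▸ hy))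
    exact mul_mem (mul_mem hy1 (inv_mem (B_le_parabolic P _ hb))) (inv_mem hxpar)
  have hu'B : u' ∈ P.B := by
    by_contra hnB
    have c1 : u' ∈ CW P r := by
      rcases (mem_parabolic_singleton P hs u').mp hpar_s with h1 | h1
      · exact absurd h1 hnB
      · rw [hCr]; exact h1
    have c2 : u' ∈ CW P r' := by
      rcases (mem_parabolic_singleton P hs' u').mp hpar_s' with h1 | h1
      · exact absurd h1 hnB
      · rw [hCr']; exact h1
    exact hne (eq_of_mem_CW P c2 c1)
  have hu'U : u' ∈ U := by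
    obtain ⟨k, hk⟩ := h.isP ⟨u, hu⟩
    have hk' : u ^ p ^ k = 1 := by
      have := congrArg Subtype.val hk
      simpa using this
    apply h.pel u' hu'B k
    have := conj_pow (a := s⁻¹) (b := u) (i := p ^ k)
    rw [inv_inv, hk'] at this
    rw [hu', this]; group
  -- (c)
  set u'' := (s * s)⁻¹ * u * (s * s) with hu''
  have hu''U : u'' ∈ U := (lt3bn_conj_mem_iff' h (P.sq_mem s hs) u).mpr hu
  have e2 : x⁻¹ * u' * x = u'' := by
    have h1 : α (s⁻¹ * u' * s) = x⁻¹ * u' * x := by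
      rw [map_mul, map_mul, map_inv, hfix u' hu'U]
    have h2 : s⁻¹ * u' * s = u'' := by rw [hu', hu'']; group
    rw [← h1, h2, hfix u'' hu''U]
  apply hxy
  have e3 : x⁻¹ * y = u'' * b := by
    have : y = s⁻¹ * (s * y) := by group
    rw [this, e, ← e2, hu']; group
  rw [e3]
  exact P.B.mul_mem (h.le hu''U) hb

end Cfsg.Agent.LT3
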