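import Mathlib
import Cfsg.Agent.Helper7.BNAut
import Cfsg.Agent.Helper7.BNSimple
import Cfsg.Agent.LT3.BNb
import Cfsg.Agent.LT3.BNc

set_option autoImplicit false

/-!
The generic theorem: in a group with a split BN-pair in which `B` contains no nontrivial normal
subgroup, a `p'`-automorphism fixing `U` pointwise is trivial.
-/

namespace Cfsg.Agent.LT3

open Cfsg Cfsg.Agent.Helper7.BN Cfsg.Agent.Helper7.InvWords

variable {G : Type*} [Group G] {p : ℕ} {P : Cfsg.BNPair G} {U : Subgroup G}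

/-- `α` stabilises the cell of a reflection -/
theorem lt3bn_cells_RS (h : lt3bn_Split p P U) (α : MulAut G) (hfix : ∀ u ∈ U, α u = u)
    {r : W P} (hr : r ∈ RS P) {g : G} (hg : g ∈ CW P r) : α g ∈ CW P r := by
  obtain ⟨n, hn, rfl⟩ := hr
  have hs : (n : G) ∈ P.S := hn
  rw [CW_proj] at hg ⊢
  obtain ⟨b1, hb1, b2, hb2, rfl⟩ := (mem_C P).mp hg
  rw [map_mul, map_mul]
  exact mul_mem_C_right P ((lt3bn_aut_B h α hfix b2).mp hb2)
    (mul_mem_C_left P ((lt3bn_aut_B h α hfix b1).mp hb1) (lt3bn_step2 h α hfix hs))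

theorem lt3bn_cells_aux (h : lt3bn_Split p P U) (α : MulAut G) (hfix : ∀ u ∈ U, α u = u) :
    ∀ (q : ℕ) (w : W P), len (RS P) w = q → ∀ g : G, g ∈ CW P w → α g ∈ CW P w := by
  intro q
  induction q with
  | zero =>
    intro w hw g hg
    have hw1 : w = 1 := (len_eq_zero_iff (invol_RS P) (mem_closure_RS P w)).mp hw
    subst hw1
    rw [CW_one] at hg ⊢
    exact (lt3bn_aut_B h α hfix g).mp hg
  | succ q ih =>
    intro w hw g hg
    obtain ⟨r, hr, w', _, hlen, rfl⟩ := exists_left_decomp (invol_RS P) (mem_closure_RS P w) hw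
    have hgood : Good P r w' := good_of_le P hr (by rw [hlen, hw]; omega)
    obtain ⟨y, hy, z, hz, rfl⟩ := CW_mul_decomp P hg
    rw [map_mul]
    exact hgood _ (lt3bn_cells_RS h α hfix hr hy) _ (ih w' hlen z hz)

/-- `α` stabilises every cell -/
theorem lt3bn_cells (h : lt3bn_Split p P U) (α : MulAut G) (hfix : ∀ u ∈ U, α u = u) :
    ∀ (w : W P) (g : G), g ∈ CW P w → α g ∈ CW P w :=
  fun w g hg => lt3bn_cells_aux h α hfix _ w rfl g hg

/-- the generic theorem for a split BN-pair with `core_G(B) = 1` -/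
theorem lt3bn_core [Fact p.Prime] (h : lt3bn_Split p P U)
    (hcore : ∀ K : Subgroup G, K.Normal → K ≤ P.B → K = ⊥)
    (α : MulAut G) (hα : ¬ p ∣ orderOf α) (hfix : ∀ u ∈ U, α u = u) : α = 1 := by
  apply lt3bn_final α P.B hcore
  intro g
  obtain ⟨w, hw⟩ := exists_mem_CW P g
  have hw' := lt3bn_cells h α hfix w g hw
  obtain ⟨u, hu, b, hb, e⟩ := lt3bn_cell_orbit h hw hw'
  exact lt3bn_L p α hα U P.B h.isP hfix (fun b hb => (lt3bn_aut_B h α hfix b).mp hb) g u b hu hb e

end Cfsg.Agent.LT3
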