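import Mathlib

set_option autoImplicit false

/-! Generic lemmas on automorphisms of order prime to `p` that fix a Sylow `p`-subgroup
pointwise (towards statement S4613). -/

namespace Cfsg.Agent.LT3

variable {G : Type*} [Group G]

/-- iterating an automorphism on an element moved by a fixed element -/
theorem lt3_pow_apply (α : MulAut G) (g z : G) (hg : α g = g * z) (hz : α z = z) (k : ℕ) :
    (α ^ k) g = g * z ^ k := by
  induction k with
  | zero => simp
  | succ k ih =>
    rw [pow_succ', MulAut.mul_apply, ih, map_mul, map_pow, hg, hz, mul_assoc, ← pow_succ']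

/-- a `p`-element fixed by a `p'`-power is trivial -/
theorem lt3_eq_one_of_pow (p : ℕ) [Fact p.Prime] {H : Subgroup G} (hH : IsPGroup p H) {z : G} (hzH : z ∈ H)
    {k : ℕ} (hk : ¬ p ∣ k) (hzk : z ^ k = 1) : z = 1 := by
  obtain ⟨n, hn⟩ := hH ⟨z, hzH⟩
  have hn' : z ^ p ^ n = 1 := by
    have := congrArg Subtype.val hn
    simpa using this
  have h1 : orderOf z ∣ p ^ n := orderOf_dvd_of_pow_eq_one hn'
  have h2 : orderOf z ∣ k := orderOf_dvd_of_pow_eq_one hzk
  have hcop : Nat.Coprime (p ^ n) k := by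
    apply Nat.Coprime.pow_left
    exact (Nat.Prime.coprime_iff_not_dvd (Fact.out)).mpr hk
  have h3 : orderOf z ∣ 1 := by
    have := Nat.dvd_gcd h1 h2
    rwa [hcop] at this
  exact orderOf_eq_one_iff.mp (Nat.dvd_one.mp h3)

/-- (G1) an automorphism of order prime to `p` fixing the `p`-group `U` pointwise fixes the
normaliser of every subgroup `D ≤ U` whose centraliser lies in `U`. -/
theorem lt3_fix_normalizer (p : ℕ) [Fact p.Prime] (α : MulAut G) (hα : ¬ p ∣ orderOf α)
    (U : Subgroup G) (hU : IsPGroup p U) (hfix : ∀ x ∈ U, α x = x)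
    (D : Subgroup G) (hDU : D ≤ U) (hC : Subgroup.centralizer (D : Set G) ≤ U) :
    ∀ g ∈ Subgroup.normalizer (D : Set G), α g = g := by
  intro g hg
  have hzC : g⁻¹ * α g ∈ Subgroup.centralizer (D : Set G) := by
    rw [Subgroup.mem_centralizer_iff]
    intro d hd
    have h1 : g * d * g⁻¹ ∈ D := (Subgroup.mem_normalizer_iff.mp hg d).mp hd
    have h2 : α (g * d * g⁻¹) = g * d * g⁻¹ := hfix _ (hDU h1)
    have h3 : α d = d := hfix _ (hDU hd)
    rw [map_mul, map_mul, map_inv, h3] at h2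
    -- h2 : α g * d * (α g)⁻¹ = g * d * g⁻¹
    have h4 : α g * d = g * d * g⁻¹ * α g := by
      rw [← h2]; group
    calc d * (g⁻¹ * α g) = g⁻¹ * (g * d * g⁻¹ * α g) := by group
      _ = g⁻¹ * (α g * d) := by rw [h4]
      _ = g⁻¹ * α g * d := by group
  have hzU : g⁻¹ * α g ∈ U := hC hzC
  have hz : α (g⁻¹ * α g) = g⁻¹ * α g := hfix _ hzU
  have hg' : α g = g * (g⁻¹ * α g) := by group
  have hpow := lt3_pow_apply α g (g⁻¹ * α g) hg' hz (orderOf α)
  rw [pow_orderOf_eq_one, MulAut.one_apply] at hpow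
  have hzk : (g⁻¹ * α g) ^ orderOf α = 1 := by
    have := hpow.symm
    rwa [mul_eq_left] at this
  have hz1 := lt3_eq_one_of_pow p hU hzU hα hzk
  rw [hg', hz1, mul_one]

/-- the per-family predicate for rank at least two: some Sylow `p`-subgroup `U` such that the
normalisers of the subgroups `D ≤ U` with `C_G(D) ≤ U` generate `G`. -/
def lt3_Good (p : ℕ) (G : Type*) [Group G] : Prop :=
  ∃ U : Sylow p G, Subgroup.closure {g : G | ∃ D : Subgroup G, D ≤ (U : Subgroup G) ∧
    Subgroup.centralizer (D : Set G) ≤ (U : Subgroup G) ∧ g ∈ Subgroup.normalizer (D : Set G)} = ⊤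

/-- conjugating an automorphism does not enlarge its order -/
theorem lt3_orderOf_conj_dvd (c α : MulAut G) : orderOf (c⁻¹ * α * c) ∣ orderOf α := by
  apply orderOf_dvd_of_pow_eq_one
  have : c⁻¹ * α * c = c⁻¹ * α * (c⁻¹)⁻¹ := by rw [inv_inv]
  rw [this, conj_pow, pow_orderOf_eq_one, mul_one, mul_inv_cancel]

/-- the theorem for the Sylow subgroup of the predicate -/
theorem lt3_of_good_aux (p : ℕ) [Fact p.Prime] (U : Sylow p G)
    (h : Subgroup.closure {g : G | ∃ D : Subgroup G, D ≤ (U : Subgroup G) ∧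
      Subgroup.centralizer (D : Set G) ≤ (U : Subgroup G) ∧ g ∈ Subgroup.normalizer (D : Set G)} = ⊤)
    (α : MulAut G) (hα : ¬ p ∣ orderOf α) (hfix : ∀ x ∈ (U : Subgroup G), α x = x) : α = 1 := by
  have hle : Subgroup.closure {g : G | ∃ D : Subgroup G, D ≤ (U : Subgroup G) ∧
      Subgroup.centralizer (D : Set G) ≤ (U : Subgroup G) ∧ g ∈ Subgroup.normalizer (D : Set G)} ≤
      (α.toMonoidHom).eqLocus (MonoidHom.id G) := by
    rw [Subgroup.closure_le]
    rintro g ⟨D, hDU, hC, hg⟩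
    exact lt3_fix_normalizer p α hα U U.isPGroup' hfix D hDU hC g hg
  rw [h] at hle
  ext x
  exact hle (Subgroup.mem_top x)

/-- reduction to one Sylow subgroup: if every `p'`-automorphism fixing `U₀` pointwise is trivial,
the same holds for every Sylow `p`-subgroup. -/
theorem lt3_reduce [Finite G] (p : ℕ) [Fact p.Prime] (U₀ : Sylow p G)
    (h₀ : ∀ β : MulAut G, ¬ p ∣ orderOf β → (∀ x ∈ (U₀ : Subgroup G), β x = x) → β = 1)
    (α : MulAut G) (hα : ¬ p ∣ orderOf α) (U : Sylow p G)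
    (hfix : ∀ x ∈ (U : Subgroup G), α x = x) : α = 1 := by
  obtain ⟨g, rfl⟩ := MulAction.exists_smul_eq G U₀ U
  set c : MulAut G := MulAut.conj g with hc
  have hβ : ¬ p ∣ orderOf (c⁻¹ * α * c) := fun hd => hα (hd.trans (lt3_orderOf_conj_dvd c α))
  have hβfix : ∀ x ∈ (U₀ : Subgroup G), (c⁻¹ * α * c) x = x := by
    intro x hx
    have hxU : g * x * g⁻¹ ∈ ((g • U₀ : Sylow p G) : Subgroup G) := by
      rw [Sylow.smul_def, Sylow.pointwise_smul_def]
      have := Subgroup.smul_mem_pointwise_smul x (MulAut.conj g) (U₀ : Subgroup G) hx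
      rwa [MulAut.smul_def, MulAut.conj_apply] at this
    have h1 := hfix _ hxU
    rw [MulAut.mul_apply, MulAut.mul_apply, hc, MulAut.conj_apply, h1, MulAut.conj_inv_apply]
    group
  have hβ1 := h₀ (c⁻¹ * α * c) hβ hβfix
  have : α = c * (c⁻¹ * α * c) * c⁻¹ := by group
  rw [this, hβ1]; group

/-- (G1), final form: in a group satisfying `lt3_Good p`, an automorphism of order prime to `p`
fixing any Sylow `p`-subgroup pointwise is trivial. -/
theorem lt3_of_good [Finite G] (p : ℕ) [Fact p.Prime] (h : lt3_Good p G)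
    (α : MulAut G) (hα : ¬ p ∣ orderOf α) (U : Sylow p G)
    (hfix : ∀ x ∈ (U : Subgroup G), α x = x) : α = 1 := by
  obtain ⟨U₀, hU₀⟩ := h
  exact lt3_reduce p U₀ (fun β hβ hβfix => lt3_of_good_aux p U₀ hU₀ β hβ hβfix) α hα U hfix

/-! ### rank one -/

/-- the per-family predicate for rank one: some Sylow `p`-subgroup `U`, not the only one, is
transitive on the others. -/
def lt3_Good1 (p : ℕ) (G : Type*) [Group G] : Prop :=
  ∃ U : Sylow p G, (∃ Q : Sylow p G, Q ≠ U) ∧
    ∀ Q Q' : Sylow p G, Q ≠ U → Q' ≠ U → ∃ u ∈ (U : Subgroup G), u • Q = Q'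

theorem lt3_conj_comm (α : MulAut G) (u : G) : α * MulAut.conj u = MulAut.conj (α u) * α := by
  ext x
  simp [MulAut.mul_apply, MulAut.conj_apply]

theorem lt3_smul_smul (p : ℕ) (α : MulAut G) (u : G) (Q : Sylow p G) :
    α • (u • Q) = (α u) • (α • Q) := by
  rw [Sylow.smul_def, Sylow.smul_def, ← mul_smul, ← mul_smul, lt3_conj_comm]

theorem lt3_smul_eq_self (p : ℕ) (α : MulAut G) (U : Sylow p G)
    (hfix : ∀ x ∈ (U : Subgroup G), α x = x) : α • U = U := by
  apply Sylow.ext
  rw [Sylow.pointwise_smul_def]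
  ext x
  rw [Subgroup.mem_pointwise_smul_iff_inv_smul_mem, MulAut.smul_def]
  constructor
  · intro h
    have := hfix _ h
    rw [MulAut.apply_inv_self] at this
    rw [this]; exact h
  · intro h
    have := hfix _ h
    have h2 : α⁻¹ x = x := by
      conv_lhs => rw [← this]
      exact MulAut.inv_apply_self _ _ _
    rw [h2]; exact h

theorem lt3_of_good1_aux [Finite G] [IsSimpleGroup G] (p : ℕ) [Fact p.Prime] (U : Sylow p G)
    (hne : ∃ Q : Sylow p G, Q ≠ U)
    (htr : ∀ Q Q' : Sylow p G, Q ≠ U → Q' ≠ U → ∃ u ∈ (U : Subgroup G), u • Q = Q')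
    (α : MulAut G) (hα : ¬ p ∣ orderOf α) (hfix : ∀ x ∈ (U : Subgroup G), α x = x) : α = 1 := by
  have hαU : α • U = U := lt3_smul_eq_self p α U hfix
  -- step 2: α fixes every Sylow subgroup
  have hall : ∀ Q : Sylow p G, α • Q = Q := by
    intro Q
    by_cases hQ : Q = U
    · rw [hQ]; exact hαU
    have hQ' : α • Q ≠ U := by
      intro h
      apply hQ
      have : α⁻¹ • (α • Q) = α⁻¹ • U := by rw [h]
      rw [inv_smul_smul] at this
      rw [this, inv_smul_eq_iff, hαU]
    obtain ⟨u, hu, huQ⟩ := htr Q (α • Q) hQ hQ'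
    have hαu : α u = u := hfix u hu
    have hpow : ∀ k : ℕ, (α ^ k) • Q = (u ^ k) • Q := by
      intro k
      induction k with
      | zero => simp
      | succ k ih =>
        rw [pow_succ', mul_smul, ih, lt3_smul_smul, map_pow, hαu, ← huQ, ← mul_smul, ← pow_succ]
    have hk := hpow (orderOf α)
    rw [pow_orderOf_eq_one, one_smul] at hk
    have hukN : u ^ orderOf α ∈ Subgroup.normalizer (Q : Set G) :=
      Sylow.smul_eq_iff_mem_normalizer.mp hk.symm
    obtain ⟨n, hn⟩ := U.isPGroup' ⟨u, hu⟩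
    have hn' : u ^ p ^ n = 1 := by
      have := congrArg Subtype.val hn
      simpa using this
    have hcop : Nat.Coprime (orderOf α) (orderOf u) := by
      have h1 : orderOf u ∣ p ^ n := orderOf_dvd_of_pow_eq_one hn'
      have h2 : Nat.Coprime (orderOf α) (p ^ n) := by
        apply Nat.Coprime.pow_right
        exact ((Nat.Prime.coprime_iff_not_dvd (Fact.out)).mpr hα).symm
      exact Nat.Coprime.coprime_dvd_right h1 h2
    obtain ⟨m, hm⟩ := exists_pow_eq_self_of_coprime hcop
    have huN : u ∈ Subgroup.normalizer (Q : Set G) := by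
      rw [← hm]; exact Subgroup.pow_mem _ hukN m
    rw [← huQ]
    exact Sylow.smul_eq_iff_mem_normalizer.mpr huN
  -- step 3
  have hmem : ∀ g : G, g⁻¹ * α g ∈ Subgroup.normalizer (U : Set G) := by
    intro g
    have h1 := hall (g • U)
    rw [lt3_smul_smul, hαU] at h1
    apply Sylow.smul_eq_iff_mem_normalizer.mp
    rw [mul_smul, h1, inv_smul_smul]
  -- step 4
  set S' : Set G := {x | ∃ g : G, x = g⁻¹ * α g} with hS'
  have hle : Subgroup.normalClosure S' ≤ Subgroup.normalizer (U : Set G) := by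
    unfold Subgroup.normalClosure
    rw [Subgroup.closure_le]
    intro x hx
    rw [Group.mem_conjugatesOfSet_iff] at hx
    obtain ⟨a, ⟨g, rfl⟩, hconj⟩ := hx
    rw [isConj_iff] at hconj
    obtain ⟨c, rfl⟩ := hconj
    have e : c * (g⁻¹ * α g) * c⁻¹ = ((g * c⁻¹)⁻¹ * α (g * c⁻¹)) * ((c⁻¹)⁻¹ * α c⁻¹)⁻¹ := by
      rw [map_mul, map_inv]; group
    rw [SetLike.mem_coe, e]
    exact Subgroup.mul_mem _ (hmem _) (Subgroup.inv_mem _ (hmem _))
  rcases (Subgroup.normalClosure_normal (s := S')).eq_bot_or_eq_top with hbot | htop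
  · ext x
    have hx : x⁻¹ * α x ∈ Subgroup.normalClosure S' := Subgroup.subset_normalClosure ⟨x, rfl⟩
    rw [hbot, Subgroup.mem_bot] at hx
    rw [MulAut.one_apply]
    calc α x = x * (x⁻¹ * α x) := by group
      _ = x := by rw [hx, mul_one]
  · exfalso
    obtain ⟨Q, hQ⟩ := hne
    obtain ⟨g, rfl⟩ := MulAction.exists_smul_eq G U Q
    apply hQ
    apply Sylow.smul_eq_iff_mem_normalizer.mpr
    apply hle
    rw [htop]; exact Subgroup.mem_top g

/-- (G2): in a simple group satisfying `lt3_Good1 p`, an automorphism of order prime to `p`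
fixing any Sylow `p`-subgroup pointwise is trivial. -/
theorem lt3_of_good1 [Finite G] [IsSimpleGroup G] (p : ℕ) [Fact p.Prime] (h : lt3_Good1 p G)
    (α : MulAut G) (hα : ¬ p ∣ orderOf α) (U : Sylow p G)
    (hfix : ∀ x ∈ (U : Subgroup G), α x = x) : α = 1 := by
  obtain ⟨U₀, hne, htr⟩ := h
  exact lt3_reduce p U₀ (fun β hβ hβfix => lt3_of_good1_aux p U₀ hne htr β hβ hβfix) α hα U hfix

/-! ### the BN form: fixing a minimal parabolic subgroup pointwise -/

/-- (G') Let `U` be a `p`-group with `C_G(U) ≤ U`, `B` a subgroup with `U ≤ B ≤ N_G(U)` fixed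
pointwise by the `p'`-automorphism `α`, and `P ≥ B` an `α`-invariant subgroup such that `U` is
transitive on the cosets `xB ≠ B` in `P` (i.e. `P = B ∪ U x B`). Then `α` fixes `P` pointwise. -/
theorem lt3_fix_parabolic (p : ℕ) [Fact p.Prime] (α : MulAut G) (hα : ¬ p ∣ orderOf α)
    (U : Subgroup G) (hU : IsPGroup p U) (B : Subgroup G) (hUB : U ≤ B)
    (hBN : B ≤ Subgroup.normalizer (U : Set G)) (hCU : Subgroup.centralizer (U : Set G) ≤ U)
    (hfixB : ∀ x ∈ B, α x = x)
    (P : Subgroup G) (hBP : B ≤ P) (hαP : ∀ x ∈ P, α x ∈ P)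
    (htr : ∀ x ∈ P, ∀ y ∈ P, x ∉ B → y ∉ B → ∃ u ∈ U, ∃ b ∈ B, y = u * x * b) :
    ∀ x ∈ P, α x = x := by
  have hk0 : orderOf α ≠ 0 := fun h => hα (by rw [h]; exact dvd_zero p)
  -- step A: y⁻¹ α(y) ∈ B for all y ∈ P
  have hZ : ∀ y ∈ P, y⁻¹ * α y ∈ B := by
    intro y hy
    by_cases hyB : y ∈ B
    · rw [hfixB y hyB, inv_mul_cancel]; exact B.one_mem
    have hαy : α y ∉ B := by
      intro h
      have h1 : α (α y) = α y := hfixB _ h
      exact hyB (by rw [← α.injective h1]; exact h)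
    obtain ⟨u, hu, b, hb, hub⟩ := htr y hy (α y) (hαP y hy) hyB hαy
    have hαu : α u = u := hfixB u (hUB hu)
    have hαb : α b = b := hfixB b hb
    have hpow : ∀ j : ℕ, (α ^ j) y = u ^ j * y * b ^ j := by
      intro j
      induction j with
      | zero => simp
      | succ j ih =>
        rw [pow_succ', MulAut.mul_apply, ih, map_mul, map_mul, map_pow, map_pow, hαu, hαb, hub,
          pow_succ, pow_succ']
        group
    have hk := hpow (orderOf α)
    rw [pow_orderOf_eq_one, MulAut.one_apply] at hk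
    have h2 : y⁻¹ * u ^ orderOf α * y = (b ^ orderOf α)⁻¹ := by
      have : y⁻¹ * u ^ orderOf α * y * b ^ orderOf α = 1 := by
        calc y⁻¹ * u ^ orderOf α * y * b ^ orderOf α
            = y⁻¹ * (u ^ orderOf α * y * b ^ orderOf α) := by group
          _ = y⁻¹ * y := by rw [← hk]
          _ = 1 := inv_mul_cancel y
      exact eq_inv_of_mul_eq_one_left this
    obtain ⟨n, hn⟩ := hU ⟨u, hu⟩
    have hn' : u ^ p ^ n = 1 := by
      have := congrArg Subtype.val hn
      simpa using this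
    have hcop : Nat.Coprime (orderOf α) (orderOf u) := by
      have h1 : orderOf u ∣ p ^ n := orderOf_dvd_of_pow_eq_one hn'
      have h3 : Nat.Coprime (orderOf α) (p ^ n) := by
        apply Nat.Coprime.pow_right
        exact ((Nat.Prime.coprime_iff_not_dvd (Fact.out)).mpr hα).symm
      exact Nat.Coprime.coprime_dvd_right h1 h3
    obtain ⟨m, hm⟩ := exists_pow_eq_self_of_coprime hcop
    have h4 : y⁻¹ * u * y = ((b ^ orderOf α)⁻¹) ^ m := by
      rw [← h2]
      have : y⁻¹ * u ^ orderOf α * y = y⁻¹ * u ^ orderOf α * (y⁻¹)⁻¹ := by rw [inv_inv]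
      rw [this, conj_pow, hm, inv_inv]
    have h5 : y⁻¹ * u * y ∈ B := by
      rw [h4]; exact B.pow_mem (B.inv_mem (B.pow_mem hb _)) _
    have h6 : y⁻¹ * α y = (y⁻¹ * u * y) * b := by rw [hub]; group
    rw [h6]; exact B.mul_mem h5 hb
  -- step B: conjugates of these elements under P stay in B
  have hK : ∀ y ∈ P, ∀ w ∈ P, w⁻¹ * (y⁻¹ * α y) * w ∈ B := by
    intro y hy w hw
    have e : w⁻¹ * (y⁻¹ * α y) * w = ((y * w)⁻¹ * α (y * w)) * (w⁻¹ * α w)⁻¹ := by
      rw [map_mul]; group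
    rw [e]
    exact B.mul_mem (hZ _ (P.mul_mem hy hw)) (B.inv_mem (hZ _ hw))
  intro x hx
  set z := x⁻¹ * α x with hz
  have hzB : z ∈ B := hZ x hx
  have hαz : α z = z := hfixB z hzB
  have hαx : α x = x * z := by rw [hz]; group
  -- z centralises U
  have hzC : z ∈ Subgroup.centralizer (U : Set G) := by
    rw [Subgroup.mem_centralizer_iff]
    intro u' hu'
    have hzu : z * u' * z⁻¹ ∈ U := (Subgroup.mem_normalizer_iff.mp (hBN hzB) u').mp hu'
    set c := u'⁻¹ * (z * u' * z⁻¹) with hc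
    have hcU : c ∈ U := U.mul_mem (U.inv_mem hu') hzu
    set r := x * c * x⁻¹ with hr
    have hrB : r ∈ B := by
      have h1 : (u' * x⁻¹)⁻¹ * z * (u' * x⁻¹) ∈ B :=
        hK x hx (u' * x⁻¹) (P.mul_mem (hBP (hUB hu')) (P.inv_mem hx))
      have h2 : (x⁻¹)⁻¹ * z * x⁻¹ ∈ B := hK x hx x⁻¹ (P.inv_mem hx)
      have e : r = ((u' * x⁻¹)⁻¹ * z * (u' * x⁻¹)) * ((x⁻¹)⁻¹ * z * x⁻¹)⁻¹ := by
        rw [hr, hc]; group
      rw [e]; exact B.mul_mem h1 (B.inv_mem h2)
    have hαr : α r = r := hfixB r hrB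
    have hv : α (x * u' * x⁻¹) = (x * u' * x⁻¹) * r := by
      rw [map_mul, map_mul, map_inv, hfixB u' (hUB hu'), hαx, hr, hc]; group
    have hpow := lt3_pow_apply α (x * u' * x⁻¹) r hv hαr (orderOf α)
    rw [pow_orderOf_eq_one, MulAut.one_apply] at hpow
    have hrk : r ^ orderOf α = 1 := by
      have := hpow.symm
      rwa [mul_eq_left] at this
    have hck : c ^ orderOf α = 1 := by
      have : r ^ orderOf α = x * c ^ orderOf α * x⁻¹ := by rw [hr, conj_pow]
      rw [this] at hrk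
      have h3 : c ^ orderOf α = x⁻¹ * (x * c ^ orderOf α * x⁻¹) * x := by group
      rw [h3, hrk]; group
    have hc1 : c = 1 := lt3_eq_one_of_pow p hU hcU hα hck
    have h4 : z * u' * z⁻¹ = u' := by
      have : u' * c = z * u' * z⁻¹ := by rw [hc]; group
      rw [← this, hc1, mul_one]
    calc u' * z = (z * u' * z⁻¹) * z := by rw [h4]
      _ = z * u' := by group
  have hzU : z ∈ U := hCU hzC
  have hpow := lt3_pow_apply α x z hαx hαz (orderOf α)
  rw [pow_orderOf_eq_one, MulAut.one_apply] at hpow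
  have hzk : z ^ orderOf α = 1 := by
    have := hpow.symm
    rwa [mul_eq_left] at this
  have hz1 := lt3_eq_one_of_pow p hU hzU hα hzk
  rw [hαx, hz1, mul_one]

/-! ### passing to a quotient by a central `p'`-subgroup -/

section quotient

variable {X : Type*} [Group X]

/-- an element whose commutators with a `p`-group `D` all lie in a central subgroup of order
prime to `p` centralises `D`. -/
theorem lt3_comm_trivial [Finite X] (p : ℕ) [Fact p.Prime] (Z : Subgroup X)
    (hZc : Z ≤ Subgroup.center X) (hZ : ¬ p ∣ Nat.card Z) (D : Subgroup X) (hD : IsPGroup p D)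
    (x : X) (hx : ∀ d ∈ D, x * d * x⁻¹ * d⁻¹ ∈ Z) : x ∈ Subgroup.centralizer (D : Set X) := by
  rw [Subgroup.mem_centralizer_iff]
  intro d hd
  set c := x * d * x⁻¹ * d⁻¹ with hc
  have hcZ : c ∈ Z := hx d hd
  have hcc : ∀ y : X, y * c = c * y := fun y => (Subgroup.mem_center_iff.mp (hZc hcZ) y)
  have hconj : x * d * x⁻¹ = c * d := by rw [hc]; group
  have hpow : ∀ k : ℕ, x * d ^ k * x⁻¹ = c ^ k * d ^ k := by
    intro k
    induction k with
    | zero => simp
    | succ k ih =>
      have h1 : x * d ^ (k + 1) * x⁻¹ = (x * d ^ k * x⁻¹) * (x * d * x⁻¹) := by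
        rw [pow_succ]; group
      rw [h1, ih, hconj, pow_succ, pow_succ]
      have h2 : d ^ k * c = c * d ^ k := hcc _
      calc c ^ k * d ^ k * (c * d) = c ^ k * (d ^ k * c) * d := by group
        _ = c ^ k * (c * d ^ k) * d := by rw [h2]
        _ = c ^ k * c * (d ^ k * d) := by group
  obtain ⟨n, hn⟩ := hD ⟨d, hd⟩
  have hn' : d ^ p ^ n = 1 := by
    have := congrArg Subtype.val hn
    simpa using this
  have h3 := hpow (p ^ n)
  rw [hn', mul_one, mul_one, mul_inv_cancel] at h3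
  have h0 : (⟨c, hcZ⟩ : Z) ^ Nat.card Z = 1 := pow_card_eq_one'
  have hc1 : c ^ Nat.card Z = 1 := by
    have := congrArg Subtype.val h0
    rwa [Subgroup.coe_pow] at this
  have h4 : orderOf c ∣ p ^ n := orderOf_dvd_of_pow_eq_one h3.symm
  have h5 : orderOf c ∣ Nat.card Z := orderOf_dvd_of_pow_eq_one hc1
  have hcop : Nat.Coprime (p ^ n) (Nat.card Z) := by
    apply Nat.Coprime.pow_left
    exact (Nat.Prime.coprime_iff_not_dvd (Fact.out)).mpr hZ
  have h6 : orderOf c ∣ 1 := by
    have := Nat.dvd_gcd h4 h5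
    rwa [hcop] at this
  have hc1' : c = 1 := orderOf_eq_one_iff.mp (Nat.dvd_one.mp h6)
  have : x * d * x⁻¹ = d := by rw [hconj, hc1', one_mul]
  calc d * x = (x * d * x⁻¹) * x := by rw [this]
    _ = x * d := by group

/-- the matrix-group form of the predicate: for a group `X` with a central subgroup `Z` of order
prime to `p` it suffices to have `C_X(D) ≤ U·Z`. -/
theorem lt3_good_quotient [Finite X] (p : ℕ) [Fact p.Prime] (Z : Subgroup X) [Z.Normal]
    (hZc : Z ≤ Subgroup.center X) (hZ : ¬ p ∣ Nat.card Z) (U : Sylow p X)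
    (h : Subgroup.closure {g : X | ∃ D : Subgroup X, D ≤ (U : Subgroup X) ∧
      Subgroup.centralizer (D : Set X) ≤ (U : Subgroup X) ⊔ Z ∧
      g ∈ Subgroup.normalizer (D : Set X)} = ⊤) : lt3_Good p (X ⧸ Z) := by
  have hsurj : Function.Surjective (QuotientGroup.mk' Z) := QuotientGroup.mk'_surjective Z
  refine ⟨U.mapSurjective hsurj, ?_⟩
  rw [eq_top_iff]
  have h1 : (⊤ : Subgroup (X ⧸ Z)) = (Subgroup.closure {g : X | ∃ D : Subgroup X, D ≤ (U : Subgroup X) ∧
      Subgroup.centralizer (D : Set X) ≤ (U : Subgroup X) ⊔ Z ∧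
      g ∈ Subgroup.normalizer (D : Set X)}).map (QuotientGroup.mk' Z) := by
    rw [h, ← MonoidHom.range_eq_map, MonoidHom.range_eq_top.mpr hsurj]
  rw [h1, MonoidHom.map_closure, Subgroup.closure_le]
  rintro _ ⟨g, ⟨D, hDU, hC, hg⟩, rfl⟩
  apply Subgroup.subset_closure
  refine ⟨D.map (QuotientGroup.mk' Z), ?_, ?_, ?_⟩
  · rw [Sylow.coe_mapSurjective]
    exact Subgroup.map_mono hDU
  · intro y hy
    obtain ⟨x, rfl⟩ := hsurj y
    rw [Sylow.coe_mapSurjective]
    have hxC : x ∈ Subgroup.centralizer (D : Set X) := by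
      apply lt3_comm_trivial p Z hZc hZ D (U.isPGroup'.to_le hDU) x
      intro d hd
      rw [Subgroup.mem_centralizer_iff] at hy
      have := hy (QuotientGroup.mk' Z d) (Subgroup.mem_map_of_mem _ hd)
      have h2 : (QuotientGroup.mk' Z) (x * d * x⁻¹ * d⁻¹) = 1 := by
        rw [map_mul, map_mul, map_mul, map_inv, map_inv, ← this]; group
      exact (QuotientGroup.eq_one_iff _).mp h2
    have := hC hxC
    rw [← SetLike.mem_coe, Subgroup.mul_normal, Set.mem_mul] at this
    obtain ⟨u, hu, z, hz, rfl⟩ := this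
    rw [map_mul]
    have hz1 : (QuotientGroup.mk' Z) z = 1 := (QuotientGroup.eq_one_iff z).mpr hz
    rw [hz1, mul_one]
    exact Subgroup.mem_map_of_mem _ hu
  · exact Subgroup.le_normalizer_map _ (Subgroup.mem_map_of_mem _ hg)

end quotient

/-! ### transport along an isomorphism -/

/-- the conclusion of S4613 is invariant under isomorphism. -/
theorem lt3_of_iso {G₀ : Type*} [Group G₀] [Finite G] (p : ℕ) [Fact p.Prime] (e : G ≃* G₀)
    (h : ∀ (α₀ : MulAut G₀), ¬ p ∣ orderOf α₀ → ∀ U₀ : Sylow p G₀,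
      (∀ x ∈ (U₀ : Subgroup G₀), α₀ x = x) → α₀ = 1)
    (α : MulAut G) (hα : ¬ p ∣ orderOf α) (U : Sylow p G)
    (hfix : ∀ x ∈ (U : Subgroup G), α x = x) : α = 1 := by
  set α₀ : MulAut G₀ := MulAut.congr e α with hα₀
  have hord : orderOf α₀ = orderOf α := MulEquiv.orderOf_eq (MulAut.congr e) α
  have hsurj : Function.Surjective e.toMonoidHom := e.surjective
  have hfix₀ : ∀ x ∈ ((U.mapSurjective hsurj : Sylow p G₀) : Subgroup G₀), α₀ x = x := by
    intro x hx
    rw [Sylow.coe_mapSurjective] at hx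
    obtain ⟨y, hy, rfl⟩ := hx
    show e (α (e.symm (e y))) = e y
    rw [e.symm_apply_apply, hfix y hy]
  have h1 := h α₀ (by rw [hord]; exact hα) (U.mapSurjective hsurj) hfix₀
  have : α = (MulAut.congr e).symm α₀ := by rw [hα₀, MulEquiv.symm_apply_apply]
  rw [this, h1, map_one]

/-! ### rank one from a transitive action -/

/-- the rank one predicate from a transitive action in which the stabiliser of a point `x` is
the normaliser of the Sylow subgroup `U` and `U` is transitive on the other points. -/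
theorem lt3_good1_of_action [Finite G] (p : ℕ) [Fact p.Prime] {Ω : Type*} [MulAction G Ω]
    [MulAction.IsPretransitive G Ω] (U : Sylow p G) (x : Ω)
    (hst : MulAction.stabilizer G x = Subgroup.normalizer (U : Set G))
    (hne : ∃ y : Ω, y ≠ x)
    (htr : ∀ y z : Ω, y ≠ x → z ≠ x → ∃ u ∈ (U : Subgroup G), u • y = z) : lt3_Good1 p G := by
  have key : ∀ g : G, g • U ≠ U → g • x ≠ x := by
    intro g hg hgx
    apply hg
    apply Sylow.smul_eq_iff_mem_normalizer.mpr
    rw [← hst]; exact hgx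
  refine ⟨U, ?_, ?_⟩
  · obtain ⟨y, hy⟩ := hne
    obtain ⟨g, rfl⟩ := MulAction.exists_smul_eq G x y
    refine ⟨g • U, fun h => hy ?_⟩
    have : g ∈ Subgroup.normalizer (U : Set G) := Sylow.smul_eq_iff_mem_normalizer.mp h
    rw [← hst] at this
    exact this
  · intro Q Q' hQ hQ'
    obtain ⟨g, rfl⟩ := MulAction.exists_smul_eq G U Q
    obtain ⟨g', rfl⟩ := MulAction.exists_smul_eq G U Q'
    obtain ⟨u, hu, huy⟩ := htr (g • x) (g' • x) (key g hQ) (key g' hQ')
    refine ⟨u, hu, ?_⟩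
    have h1 : (g'⁻¹ * u * g) • x = x := by
      rw [mul_smul, mul_smul, huy, inv_smul_smul]
    have h2 : g'⁻¹ * u * g ∈ Subgroup.normalizer (U : Set G) := by
      rw [← hst]; exact h1
    have h3 := Sylow.smul_eq_iff_mem_normalizer.mpr h2
    rw [mul_smul, mul_smul, inv_smul_eq_iff] at h3
    exact h3

end Cfsg.Agent.LT3
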