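import Mathlib
import Cfsg.Agent.Helper7.BNParabolic
import Cfsg.Agent.LT3.BNb
import Cfsg.Agent.LT3.BNFin
import Cfsg.Agent.LT3.Gen
import Cfsg.Agent.LT3.Quot

set_option autoImplicit false
set_option linter.unusedSectionVars false
set_option linter.unusedVariables false

/-!
S4613 (swarm LT3), generic BN-pair theorem, file BNe: the per-family predicate `lt3bn_Data`, its
variants, the push-forward of a BN-pair (and of the data) along a surjective homomorphism with central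
kernel, `Data ⇒ Split`, and the reduction of the main theorem to step (2) (`lt3bn_core_of_step2`,
`lt3bn_main_of_step2`).
-/

namespace Cfsg.Agent.LT3

open Cfsg Cfsg.Agent.Helper7.BN Cfsg.Agent.Helper7.InvWords DoubleCoset

variable {G : Type*} [Group G] {p : ℕ}

/-- THE PER-FAMILY DELIVERABLE, on any carrier `X` (a cover such as `SL`, `Sp`, `SU`, `Ω`, a Chevalley
group, or the simple group itself): a BN-pair of rank `≥ 1` with `B = U (B ∩ N)`, `U ⊴ B`,
`U` a `p`-subgroup of index prime to `p`. -/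
def lt3bn_Data (p : ℕ) (X : Type*) [Group X] : Prop :=
  ∃ (P : Cfsg.BNPair X) (U : Subgroup X), P.S.Nonempty ∧ IsPGroup p U ∧ ¬ p ∣ U.index ∧ U ≤ P.B ∧
    (∀ b ∈ P.B, ∀ u ∈ U, b * u * b⁻¹ ∈ U) ∧ (∀ b ∈ P.B, ∃ u ∈ U, ∃ t ∈ P.B ⊓ P.N, b = u * t)

/-- elements of `U ⊔ T` are products `u t`, when `T` normalises `U`. -/
theorem lt3bn_mem_sup_of_norm {X : Type*} [Group X] (U T : Subgroup X)
    (hnorm : ∀ t ∈ T, ∀ u ∈ U, t * u * t⁻¹ ∈ U) {x : X} (hx : x ∈ U ⊔ T) :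
    ∃ u ∈ U, ∃ t ∈ T, x = u * t := by
  rw [Subgroup.sup_eq_closure] at hx
  induction hx using Subgroup.closure_induction with
  | mem y hy =>
    rcases hy with hy | hy
    · exact ⟨y, hy, 1, T.one_mem, (mul_one y).symm⟩
    · exact ⟨1, U.one_mem, y, hy, (one_mul y).symm⟩
  | one => exact ⟨1, U.one_mem, 1, T.one_mem, (mul_one 1).symm⟩
  | mul a b _ _ ha hb =>
    obtain ⟨u₁, hu₁, t₁, ht₁, rfl⟩ := ha
    obtain ⟨u₂, hu₂, t₂, ht₂, rfl⟩ := hb
    exact ⟨u₁ * (t₁ * u₂ * t₁⁻¹), U.mul_mem hu₁ (hnorm t₁ ht₁ u₂ hu₂), t₁ * t₂, T.mul_mem ht₁ ht₂,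
      by group⟩
  | inv a _ ha =>
    obtain ⟨u, hu, t, ht, rfl⟩ := ha
    exact ⟨t⁻¹ * u⁻¹ * t⁻¹⁻¹, hnorm t⁻¹ (T.inv_mem ht) u⁻¹ (U.inv_mem hu), t⁻¹, T.inv_mem ht,
      by group⟩

/-- the same with `B = U ⊔ (B ⊓ N)` as subgroups -/
theorem lt3bn_data_of_sup {X : Type*} [Group X] (P : Cfsg.BNPair X) (U : Subgroup X)
    (hS : P.S.Nonempty) (hU : IsPGroup p U) (hidx : ¬ p ∣ U.index) (hle : U ≤ P.B)
    (hnorm : ∀ b ∈ P.B, ∀ u ∈ U, b * u * b⁻¹ ∈ U) (hsup : U ⊔ (P.B ⊓ P.N) = P.B) :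
    lt3bn_Data p X := by
  refine ⟨P, U, hS, hU, hidx, hle, hnorm, ?_⟩
  intro b hb
  rw [← hsup] at hb
  exact lt3bn_mem_sup_of_norm U (P.B ⊓ P.N) (fun t ht u hu => hnorm t ht.1 u hu) hb

/-- push-forward of a BN-pair along a surjective homomorphism whose kernel lies in `B` -/
def lt3bn_map {X : Type*} [Group X] (P : Cfsg.BNPair X) (f : X →* G)
    (hf : Function.Surjective f) (hker : f.ker ≤ P.B) : Cfsg.BNPair G :=
  lt3f_bnMap P f hf hker

@[simp] theorem lt3bn_map_B {X : Type*} [Group X] (P : Cfsg.BNPair X) (f : X →* G)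
    (hf : Function.Surjective f) (hker : f.ker ≤ P.B) : (lt3bn_map P f hf hker).B = P.B.map f := rfl

@[simp] theorem lt3bn_map_N {X : Type*} [Group X] (P : Cfsg.BNPair X) (f : X →* G)
    (hf : Function.Surjective f) (hker : f.ker ≤ P.B) : (lt3bn_map P f hf hker).N = P.N.map f := rfl

@[simp] theorem lt3bn_map_S {X : Type*} [Group X] (P : Cfsg.BNPair X) (f : X →* G)
    (hf : Function.Surjective f) (hker : f.ker ≤ P.B) : (lt3bn_map P f hf hker).S = f '' P.S := rfl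

/-- the centre lies in `B` (as `N_X(B) = B`) -/
theorem lt3bn_center_le {X : Type*} [Group X] (P : Cfsg.BNPair X) : Subgroup.center X ≤ P.B := by
  intro z hz
  apply mem_of_conj_B_le P (le_refl _)
  intro b hb
  have : z * b = b * z := (Subgroup.mem_center_iff.mp hz b).symm
  have e : z * b * z⁻¹ = b := by rw [this]; group
  rw [e]
  exact hb

/-- `Data` gives `Split` (the `p`-elements of `B` lie in `U` since `U` is a normal Sylow subgroup of `B`) -/
theorem lt3bn_split_of_data [Fact p.Prime] (P : Cfsg.BNPair G) (U : Subgroup G)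
    (hU : IsPGroup p U) (hidx : ¬ p ∣ U.index) (hle : U ≤ P.B)
    (hnorm : ∀ b ∈ P.B, ∀ u ∈ U, b * u * b⁻¹ ∈ U)
    (hsplit : ∀ b ∈ P.B, ∃ u ∈ U, ∃ t ∈ P.B ⊓ P.N, b = u * t) : lt3bn_Split p P U := by
  refine ⟨hU, hle, hnorm, hsplit, ?_⟩
  intro b hb k hbk
  -- `⟨b⟩` is a `p`-group normalising `U`
  have hZ : IsPGroup p (Subgroup.zpowers b) := by
    rintro ⟨x, hx⟩
    obtain ⟨j, rfl⟩ := Subgroup.mem_zpowers_iff.mp hx
    refine ⟨k, ?_⟩
    apply Subtype.ext
    change (b ^ j) ^ p ^ k = 1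
    rw [← zpow_natCast, ← zpow_mul, mul_comm, zpow_mul, zpow_natCast, hbk, one_zpow]
  have hbN : b ∈ Subgroup.normalizer (U : Set G) := by
    rw [Subgroup.mem_normalizer_iff]
    intro u
    constructor
    · exact hnorm b hb u
    · intro hu
      have := hnorm b⁻¹ (P.B.inv_mem hb) _ hu
      have e : b⁻¹ * (b * u * b⁻¹) * b⁻¹⁻¹ = u := by group
      rwa [e] at this
  have hZN : Subgroup.zpowers b ≤ Subgroup.normalizer (U : Set G) := by
    rw [Subgroup.zpowers_le]; exact hbN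
  have hK : IsPGroup p (Subgroup.zpowers b ⊔ U : Subgroup G) := hZ.to_sup_of_normal_right' hU hZN
  have hmax := (hU.toSylow hidx).is_maximal' hK (by
    rw [IsPGroup.toSylow_coe]; exact le_sup_right)
  rw [IsPGroup.toSylow_coe] at hmax
  rw [← hmax]
  exact (le_sup_left : Subgroup.zpowers b ≤ _) (Subgroup.mem_zpowers b)

/-- `Data` passes to central quotients (and isomorphic copies) -/
theorem lt3bn_data_map {X : Type*} [Group X] [Fact p.Prime] (h : lt3bn_Data p X) (f : X →* G)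
    (hf : Function.Surjective f) (hker : f.ker ≤ Subgroup.center X) : lt3bn_Data p G := by
  obtain ⟨P, U, hS, hU, hidx, hle, hnorm, hsplit⟩ := h
  have hkerB : f.ker ≤ P.B := hker.trans (lt3bn_center_le P)
  refine ⟨lt3bn_map P f hf hkerB, U.map f, ?_, hU.map f, ?_, ?_, ?_, ?_⟩
  · obtain ⟨s, hs⟩ := hS
    exact ⟨f s, s, hs, rfl⟩
  · exact fun hd => hidx (hd.trans (Subgroup.index_map_dvd U hf))
  · rw [lt3bn_map_B]; exact Subgroup.map_mono hle
  · rw [lt3bn_map_B]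
    rintro _ ⟨b, hb, rfl⟩ _ ⟨u, hu, rfl⟩
    have e : f b * f u * (f b)⁻¹ = f (b * u * b⁻¹) := by rw [map_mul, map_mul, map_inv]
    rw [e]
    exact Subgroup.mem_map_of_mem f (hnorm b hb u hu)
  · rw [lt3bn_map_B, lt3bn_map_N]
    rintro _ ⟨b, hb, rfl⟩
    obtain ⟨u, hu, t, ht, rfl⟩ := hsplit b hb
    refine ⟨f u, Subgroup.mem_map_of_mem f hu, f t, ?_, map_mul f u t⟩
    exact Subgroup.mem_inf.mpr ⟨Subgroup.mem_map_of_mem f ht.1, Subgroup.mem_map_of_mem f ht.2⟩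

/-- the core hypothesis: in a simple group, `B` contains no non-trivial normal subgroup
(as `S` is non-empty, `B ≠ ⊤`). -/
theorem lt3bn_core_hyp [IsSimpleGroup G] (P : Cfsg.BNPair G) (hS : P.S.Nonempty) :
    ∀ K : Subgroup G, K.Normal → K ≤ P.B → K = ⊥ := by
  intro K hK hKB
  rcases hK.eq_bot_or_eq_top with h | h
  · exact h
  · exfalso
    obtain ⟨s, hs⟩ := hS
    apply S_not_mem_B P hs
    apply hKB
    rw [h]
    exact Subgroup.mem_top s

/-- steps (3) and (4) for a split BN-pair, given step (2). -/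
theorem lt3bn_core_of_step2 [Fact p.Prime] {P : Cfsg.BNPair G} {U : Subgroup G}
    (h : lt3bn_Split p P U) (hcore : ∀ K : Subgroup G, K.Normal → K ≤ P.B → K = ⊥)
    (α : MulAut G) (hα : ¬ p ∣ orderOf α) (hfix : ∀ u ∈ U, α u = u)
    (hstep2 : ∀ s ∈ P.S, α s ∈ C P s) : α = 1 := by
  have hαB : ∀ b ∈ P.B, α b ∈ P.B := fun b hb => (lt3bn_aut_B h α hfix b).mp hb
  have hL : ∀ g u b : G, u ∈ U → b ∈ P.B → α g = u * g * b → g⁻¹ * α g ∈ P.B :=
    fun g u b hu hb e => lt3bn_L p α hα U P.B h.isP hfix hαB g u b hu hb e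
  have hS : ∀ s ∈ P.S, s⁻¹ * α s ∈ P.B := by
    intro s hs
    obtain ⟨u, hu, b, hb, e⟩ := lt3bn_cell h (P.subset hs) (hstep2 s hs)
    exact hL s u b hu hb e
  exact lt3bn_final α P.B hcore (lt3f_all_cosets P U h.split α hαB hfix hL hS)

/-- MAIN, given step (2): a finite simple group with `Data` satisfies the S4613 conclusion. -/
theorem lt3bn_main_of_step2 [Finite G] [IsSimpleGroup G] [Fact p.Prime] (h : lt3bn_Data p G)
    (hstep2 : ∀ (P : Cfsg.BNPair G) (U : Subgroup G), lt3bn_Split p P U → ∀ α : MulAut G,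
      (∀ u ∈ U, α u = u) → ∀ s ∈ P.S, α s ∈ C P s) : lt3q_P p G := by
  obtain ⟨P, U, hS, hU, hidx, hle, hnorm, hsplit⟩ := h
  have hsp := lt3bn_split_of_data P U hU hidx hle hnorm hsplit
  have hcore := lt3bn_core_hyp P hS
  intro α hα V hfix
  refine lt3_reduce p (hU.toSylow hidx) ?_ α hα V hfix
  intro β hβ hβfix
  exact lt3bn_core_of_step2 hsp hcore β hβ (fun u hu => hβfix u hu) (hstep2 P U hsp β
    (fun u hu => hβfix u hu))

end Cfsg.Agent.LT3
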