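import Mathlib
import Cfsg.Agent.LT3.BNc
import Cfsg.Agent.LT3.BNd
import Cfsg.Agent.LT3.BNe

set_option autoImplicit false
set_option linter.unusedSectionVars false
set_option linter.unusedVariables false

/-!
S4613 (swarm LT3), generic BN-pair theorem, final form: a finite simple group carrying the per-family
data `lt3bn_Data p` (directly, or through a cover with central kernel) satisfies the conclusion of
S4613 (`lt3q_P p G`).
-/

namespace Cfsg.Agent.LT3

open Cfsg Cfsg.Agent.Helper7.BN

variable {G : Type*} [Group G] {p : ℕ}

/-- MAIN: a finite simple group with `Data` satisfies the S4613 conclusion. -/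
theorem lt3bn_main [Finite G] [IsSimpleGroup G] [Fact p.Prime] (h : lt3bn_Data p G) : lt3q_P p G := by
  obtain ⟨P, U, hS, hU, hidx, hle, hnorm, hsplit⟩ := h
  have hsp := lt3bn_split_of_data P U hU hidx hle hnorm hsplit
  have hcore := lt3bn_core_hyp P hS
  intro α hα V hfix
  refine lt3_reduce p (hU.toSylow hidx) ?_ α hα V hfix
  intro β hβ hβfix
  exact lt3bn_core hsp hcore β hβ (fun u hu => hβfix u hu)

/-- MAIN, cover form: `X` has `Data`, `G` finite simple is a central quotient of `X`. -/
theorem lt3bn_main_cover {X : Type*} [Group X] [Finite G] [IsSimpleGroup G] [Fact p.Prime]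
    (h : lt3bn_Data p X) (f : X →* G) (hf : Function.Surjective f)
    (hker : f.ker ≤ Subgroup.center X) : lt3q_P p G :=
  lt3bn_main (lt3bn_data_map h f hf hker)

/-- MAIN, isomorphism form: `X` has `Data` and `G` finite simple is isomorphic to `X`. -/
theorem lt3bn_main_iso {X : Type*} [Group X] [Finite G] [IsSimpleGroup G] [Fact p.Prime]
    (h : lt3bn_Data p X) (e : X ≃* G) : lt3q_P p G := by
  refine lt3bn_main_cover h e.toMonoidHom e.surjective ?_
  intro x hx
  have : x = 1 := by
    have h1 : e x = 1 := hx
    exact (MulEquiv.map_eq_one_iff e).mp h1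
  rw [this]
  exact Subgroup.one_mem _

end Cfsg.Agent.LT3
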