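import Cfsg.Agent.S1042
import Cfsg.Agent.S2326
import Cfsg.Agent.Helper7.ChevOutB

/-!
# LT3: the split `BN`-pair data of the (untwisted) Chevalley groups

For `D ∈ {G₂, B₂, D₄, F₄, E₆, E₇, E₈}` over a finite field of characteristic `p`: the `BN`-pair of
`S1042`, with `U = posUnipotent` a Sylow `p`-subgroup (`S2326`), `U ⊴ B`, `B = U H`, `H ≤ B ⊓ N`.
-/

set_option autoImplicit false

namespace Cfsg.Agent.LT3

open Cfsg Cfsg.Lie Matrix Cfsg.Agent.Helper7.Chev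
open scoped Pointwise

theorem lt3_chev_data {F : Type*} [Field F] [Fintype F] (p : ℕ) [Fact p.Prime] [CharP F p]
    (D : Cfsg.Lie.ChevalleyDatum)
    (hD : D ∈ [Cfsg.Lie.chevG2, Cfsg.Lie.chevB2, Cfsg.Lie.chevD4, Cfsg.Lie.chevF4,
      Cfsg.Lie.chevE6, Cfsg.Lie.chevE7, Cfsg.Lie.chevE8]) :
    ∃ (P : Cfsg.BNPair ↥(D.group F)) (U : Subgroup ↥(D.group F)), P.S.Nonempty ∧ IsPGroup p U ∧
      ¬ p ∣ U.index ∧ U ≤ P.B ∧ (∀ b ∈ P.B, ∀ u ∈ U, b * u * b⁻¹ ∈ U) ∧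
      (∀ b ∈ P.B, ∃ u ∈ U, ∃ t ∈ P.B ⊓ P.N, b = u * t) := by
  have hG3 := good3_of_mem D hD
  have hG : Good2 D := hG3.toGood2
  have hG1 : Good1 D := hG.toGood1
  obtain ⟨P, hB, hN, hS⟩ := Cfsg.Agent.S1042.result (F := F) D hD
  obtain ⟨Q, hQ⟩ := Cfsg.Agent.S2326.result (F := F) p D hD
  have h0 : 0 < D.rank := rank_pos_of_mem D hD
  have hnorm : D.borelSubgroup F ≤ Subgroup.normalizer (D.posUnipotent F : Set (GL D.Idx F)) := by
    unfold ChevalleyDatum.borelSubgroup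
    exact sup_le Subgroup.le_normalizer (diagonalSubgroup_le_normalizer_pos hG)
  refine ⟨P, (D.posUnipotent F).subgroupOf (D.group F), ?_, ?_, ?_, ?_, ?_, ?_⟩
  · rw [hS]
    have hp := hG1.simple_lt h0
    have hmem : (nGL hG1 hp : GL D.Idx F) ∈ D.group F :=
      monomialSubgroup_le_group hG1 (nGL_mem_monomial hG hp)
    exact ⟨⟨nGL hG1 hp, hmem⟩, 0, h0, nGL_coe hG1 hp⟩
  · rw [← hQ]
    exact Q.isPGroup'
  · rw [← hQ]
    exact Q.not_dvd_index
  · rw [hB]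
    intro x hx
    rw [Subgroup.mem_subgroupOf] at hx ⊢
    exact Subgroup.mem_sup_left hx
  · intro b hb u hu
    rw [hB, Subgroup.mem_subgroupOf] at hb
    rw [Subgroup.mem_subgroupOf] at hu ⊢
    rw [Subgroup.coe_mul, Subgroup.coe_mul, Subgroup.coe_inv]
    exact (Subgroup.mem_set_normalizer_iff.mp (hnorm hb) _).mp hu
  · intro b hb
    rw [hB, Subgroup.mem_subgroupOf] at hb
    have hmul := Subgroup.coe_mul_of_right_le_normalizer_left (D.posUnipotent F)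
      (D.diagonalSubgroup F) (diagonalSubgroup_le_normalizer_pos hG)
    have hb' : (b : GL D.Idx F) ∈
        (D.posUnipotent F : Set (GL D.Idx F)) * (D.diagonalSubgroup F : Set (GL D.Idx F)) := by
      rw [← hmul]; exact hb
    obtain ⟨u, hu, h, hh, e⟩ := hb'
    refine ⟨⟨u, posUnipotent_le_group hu⟩, ?_, ⟨h, diagonalSubgroup_le_group hG1 hh⟩, ?_, ?_⟩
    · rw [Subgroup.mem_subgroupOf]
      exact hu
    · rw [hB, hN, Subgroup.mem_inf, Subgroup.mem_subgroupOf, Subgroup.mem_subgroupOf]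
      exact ⟨Subgroup.mem_sup_right hh, Subgroup.mem_sup_left hh⟩
    · exact Subtype.ext e.symm

end Cfsg.Agent.LT3
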