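import Mathlib
import Cfsg.Prelude.Def_LieTypeChar
import Cfsg.Agent.LT3.ChevData
import Cfsg.Agent.LT3.BNf

set_option autoImplicit false

/-!
S4613 (swarm LT3): the `IsExceptionalChevChar` disjunct (Chevalley groups of types G₂, F₄, E₆, E₇, E₈),
assembly-ready: helper7's BN-pair data `lt3_chev_data` + the generic theorem `lt3bn_main_iso`.
-/

namespace Cfsg.Agent.LT3

open Cfsg

/-- the conclusion of S4613 for a finite simple group isomorphic to a Chevalley group `D.group F`,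
`D` one of the seven data. -/
theorem lt3_chev_of_iso {G : Type*} [Group G] [Finite G] [IsSimpleGroup G] {F : Type*} [Field F]
    [Fintype F] (p : ℕ) [Fact p.Prime] [CharP F p] (D : Cfsg.Lie.ChevalleyDatum)
    (hD : D ∈ [Cfsg.Lie.chevG2, Cfsg.Lie.chevB2, Cfsg.Lie.chevD4, Cfsg.Lie.chevF4,
      Cfsg.Lie.chevE6, Cfsg.Lie.chevE7, Cfsg.Lie.chevE8]) (e : G ≃* ↥(D.group F)) : lt3q_P p G :=
  lt3bn_main_iso (lt3_chev_data p D hD) e.symm

/-- the `IsExceptionalChevChar p G` disjunct of `IsLieTypeChar`: assembly-ready. -/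
theorem lt3_chev_iso {G : Type*} [Group G] [Finite G] [IsSimpleGroup G] (p : ℕ) [Fact p.Prime]
    (hG : Cfsg.IsExceptionalChevChar p G) : lt3q_P p G := by
  obtain ⟨F, _, _, _, h⟩ := hG
  rcases h with ⟨_, he⟩ | he | he | he | he
  · obtain ⟨e⟩ := he
    exact lt3_chev_of_iso p Cfsg.Lie.chevG2 (by simp) e
  · obtain ⟨e⟩ := he
    exact lt3_chev_of_iso p Cfsg.Lie.chevF4 (by simp) e
  · obtain ⟨e⟩ := he
    exact lt3_chev_of_iso p Cfsg.Lie.chevE6 (by simp) e
  · obtain ⟨e⟩ := he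
    exact lt3_chev_of_iso p Cfsg.Lie.chevE7 (by simp) e
  · obtain ⟨e⟩ := he
    exact lt3_chev_of_iso p Cfsg.Lie.chevE8 (by simp) e

end Cfsg.Agent.LT3
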