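import Mathlib
import Cfsg.Agent.Helper7.ChevF4m
import Cfsg.Agent.Helper7.ChevRee29
import Cfsg.Agent.LT2.TwF4Syl
import Cfsg.Agent.LT3.BNf

set_option autoImplicit false
set_option linter.unusedSectionVars false
set_option linter.unusedVariables false

/-!
S4613 (swarm LT3), family ²F₄: the BN-pair data `lt3bn_Data 2` for `²F₄(q)`, `q = 2^(2m+1)`:
helper7's BN-pair (`f4_exists_bnPair`), `U¹ = U ⊓ ²F₄(q)` (Sylow by helper8's `lt2_f4_syl`),
`B¹ = U¹ H¹` (`borel_fix_decomp`), and the conclusion of S4613 for every group isomorphic to `²F₄(q)`.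
-/

namespace Cfsg.Agent.LT3

open Cfsg Cfsg.Lie Matrix Cfsg.Agent.Helper7.Chev Cfsg.Agent.LT2

/-- the BN-pair data of `²F₄(q)`, with the characteristic-2 instance given -/
theorem lt3_f4_data_aux {K : Type*} [Field K] [Fintype K] [CharP K 2] {m : ℕ}
    (hK : Fintype.card K = 2 ^ (2 * m + 1)) : lt3bn_Data 2 ↥(twistedF4 K (2 ^ m)) := by
  have hm := pow_card_two hK
  obtain ⟨P, hB, hN, hS⟩ := f4_exists_bnPair hm
  obtain ⟨hUp, hidx⟩ := lt2_f4_syl (m := m) hK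
  have hG := good3_F4.toGood2
  refine ⟨P, (chevF4.posUnipotent K ⊓ twistedF4 K (2 ^ m)).subgroupOf (twistedF4 K (2 ^ m)),
    ?_, hUp, hidx, ?_, ?_, ?_⟩
  · rw [hS]
    exact ⟨⟨f4N1 K, f4N1_mem_twisted⟩, f4Cls1 hm, List.mem_cons_self, (f4N1_eq_word hm).symm⟩
  · rw [hB]
    intro x hx
    rw [Subgroup.mem_subgroupOf] at hx ⊢
    exact Subgroup.mem_inf.mpr ⟨(le_sup_left : chevF4.posUnipotent K ≤ chevF4.borelSubgroup K) hx.1, hx.2⟩
  · rw [hB]
    intro b hb u hu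
    rw [Subgroup.mem_subgroupOf] at hb hu ⊢
    have hnorm := borel_le_normalizer_pos (F := K) good3_F4.toGood2 hb.1
    have h1 : (b : GL chevF4.Idx K) * u * (b : GL chevF4.Idx K)⁻¹ ∈ chevF4.posUnipotent K :=
      (Subgroup.mem_set_normalizer_iff.mp hnorm _).mp hu.1
    refine Subgroup.mem_inf.mpr ⟨?_, ?_⟩
    · simpa using h1
    · exact (b * u * b⁻¹).2
  · rw [hB, hN]
    intro b hb
    rw [Subgroup.mem_subgroupOf] at hb
    obtain ⟨u, hu, h, hh, e⟩ := borel_fix_decomp good3_F4.toGood2 T0_F4 good3_F4.t3 good3_F4.t4 T5_F4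
      T6_F4 T8_F4 T9_F4 (f4Tau_rootAut hm) (twistedF4_le_fixSub hm) (f4_posFix_le hm) hb
    refine ⟨⟨u, hu.2⟩, ?_, ⟨h, hh.2⟩, ?_, ?_⟩
    · rw [Subgroup.mem_subgroupOf]; exact hu
    · refine Subgroup.mem_inf.mpr ⟨?_, ?_⟩
      · rw [Subgroup.mem_subgroupOf]
        exact Subgroup.mem_inf.mpr
          ⟨(le_sup_right : chevF4.diagonalSubgroup K ≤ chevF4.borelSubgroup K) hh.1, hh.2⟩
      · rw [Subgroup.mem_subgroupOf]
        exact Subgroup.mem_inf.mpr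
          ⟨(le_sup_left : chevF4.diagonalSubgroup K ≤ chevF4.monomialSubgroup K) hh.1, hh.2⟩
    · apply Subtype.ext
      exact e

/-- the BN-pair data of `²F₄(q)`, `q = 2^(2m+1)` -/
theorem lt3_f4_data {K : Type*} [Field K] [Fintype K] {m : ℕ}
    (hK : Fintype.card K = 2 ^ (2 * m + 1)) : lt3bn_Data 2 ↥(twistedF4 K (2 ^ m)) := by
  have := charP_two_of_card (by omega) hK
  exact lt3_f4_data_aux hK

/-- the `(p = 2 ∧ Lie.Iso2F4 G)` disjunct of `IsLieTypeChar`: assembly-ready. -/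
theorem lt3_f4_iso {G : Type*} [Group G] [Finite G] [IsSimpleGroup G] (hG : Cfsg.Lie.Iso2F4 G) :
    lt3q_P 2 G := by
  obtain ⟨K, _, _, m, hm, hK, ⟨e⟩⟩ := hG
  have : Fact (Nat.Prime 2) := ⟨Nat.prime_two⟩
  exact lt3bn_main_iso (lt3_f4_data hK) e.symm

end Cfsg.Agent.LT3
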