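import Mathlib

set_option autoImplicit false

/-!
Key lemma (L) for automorphisms of `p'`-order fixing a `p`-element `u`: if `α` stabilises a
subgroup `B` and `α g ∈ u * g * B`, then already `α g ∈ g * B`.
-/

namespace Cfsg.Agent.LT3

variable {G : Type*} [Group G]

/-- Iteration with `α` only stabilising `B` (not fixing it pointwise). -/
theorem lt3kl_iterate (α : MulAut G) (B : Subgroup G) (hB : ∀ b ∈ B, α b ∈ B) {u g : G}
    (hu : α u = u) (hg : (u * g)⁻¹ * α g ∈ B) :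
    ∀ k : ℕ, ∃ c ∈ B, (α ^ k) g = u ^ k * g * c := by
  intro k
  induction k with
  | zero => exact ⟨1, B.one_mem, by simp⟩
  | succ k ih =>
    obtain ⟨c, hc, hk⟩ := ih
    refine ⟨(u * g)⁻¹ * α g * α c, B.mul_mem hg (hB c hc), ?_⟩
    rw [pow_succ', MulAut.mul_apply, hk, map_mul, map_mul, map_pow, hu, pow_succ]
    group

/-- **Key lemma (L).** -/
theorem lt3kl_key (α : MulAut G) (hk0 : orderOf α ≠ 0) (B : Subgroup G)
    (hB : ∀ b ∈ B, α b ∈ B) {u g : G} (hu : α u = u)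
    (hcop : Nat.Coprime (orderOf α) (orderOf u)) (hg : (u * g)⁻¹ * α g ∈ B) :
    g⁻¹ * α g ∈ B := by
  obtain ⟨c, hc, hk⟩ := lt3kl_iterate α B hB hu hg (orderOf α)
  rw [pow_orderOf_eq_one, MulAut.one_apply] at hk
  -- `u ^ k = g * c⁻¹ * g⁻¹`
  have h1 : u ^ orderOf α = g * c⁻¹ * g⁻¹ := by
    calc u ^ orderOf α = (u ^ orderOf α * g * c) * c⁻¹ * g⁻¹ := by group
      _ = g * c⁻¹ * g⁻¹ := by rw [← hk]
  obtain ⟨m, hm⟩ := exists_pow_eq_self_of_coprime (x := u) hcop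
  have h2 : u = g * (c⁻¹) ^ m * g⁻¹ := by
    rw [← hm, h1, ← conj_pow]
  have h3 : g⁻¹ * α g = (c⁻¹) ^ m * ((u * g)⁻¹ * α g) := by
    have : g⁻¹ * α g = (g⁻¹ * u * g) * ((u * g)⁻¹ * α g) := by group
    rw [this]
    congr 1
    rw [h2]
    group
  rw [h3]
  exact B.mul_mem (B.pow_mem (B.inv_mem hc) m) hg

/-- Version for a `p`-element `u` and `p ∤ |α|`. -/
theorem lt3kl_key_p (p : ℕ) [hp : Fact p.Prime] (α : MulAut G) (hα : ¬ p ∣ orderOf α)
    (B : Subgroup G) (hB : ∀ b ∈ B, α b ∈ B) {u g : G} (hu : α u = u)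
    (hup : ∃ j : ℕ, u ^ p ^ j = 1) (hg : (u * g)⁻¹ * α g ∈ B) :
    g⁻¹ * α g ∈ B := by
  have hk0 : orderOf α ≠ 0 := by
    intro h
    rw [h] at hα
    exact hα (dvd_zero p)
  obtain ⟨j, hj⟩ := hup
  have hord : orderOf u ∣ p ^ j := orderOf_dvd_of_pow_eq_one hj
  have hcop : Nat.Coprime (orderOf α) (p ^ j) :=
    Nat.Coprime.pow_right j ((Nat.Prime.coprime_iff_not_dvd hp.out).2 hα).symm
  exact lt3kl_key α hk0 B hB hu (Nat.Coprime.coprime_dvd_right hord hcop) hg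

end Cfsg.Agent.LT3
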