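import Mathlib
import Cfsg.Agent.LT3.Quot
import Cfsg.Agent.Helper8.Af13F
import Cfsg.Prelude.Def_LieTypeChar

set_option autoImplicit false

/-!
# Statement S4613 for the orthogonal families (helper8)

Thin wrappers around `Cfsg.Agent.Helper8.Af13.af13_odd`, `af13_plus`, `af13_minus` in the shape of
the three orthogonal disjuncts of `Cfsg.IsLieTypeChar`.
-/

namespace Cfsg.Agent.LT3

/-- S4613 for odd-dimensional orthogonal groups -/
theorem lt3_oo_h8 {G : Type*} [Group G] (p : ℕ) [Fact p.Prime] (hG : Cfsg.IsPOmegaOddChar p G) :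
    lt3q_P p G := by
  obtain ⟨F, _, _, _, m, hm, hodd, ⟨e⟩⟩ := hG
  obtain ⟨k, rfl⟩ : ∃ k, m = k + 3 := ⟨m - 3, by omega⟩
  exact lt3q_of_iso p e (Cfsg.Agent.Helper8.Af13.af13_odd F p k hodd)

/-- S4613 for even-dimensional orthogonal groups of plus type -/
theorem lt3_op_h8 {G : Type*} [Group G] (p : ℕ) [Fact p.Prime] (hG : Cfsg.IsPOmegaPlusChar p G) :
    lt3q_P p G := by
  obtain ⟨F, _, _, _, m, hm, ⟨e⟩⟩ := hG
  obtain ⟨k, rfl⟩ : ∃ k, m = k + 3 := ⟨m - 3, by omega⟩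
  exact lt3q_of_iso p e (Cfsg.Agent.Helper8.Af13.af13_plus F p k)

/-- S4613 for even-dimensional orthogonal groups of minus type -/
theorem lt3_om_h8 {G : Type*} [Group G] (p : ℕ) [Fact p.Prime] (hG : Cfsg.IsPOmegaMinusChar p G) :
    lt3q_P p G := by
  obtain ⟨F, _, _, _, m, a, b, hm, hab, ⟨e⟩⟩ := hG
  obtain ⟨k, rfl⟩ : ∃ k, m = k + 4 := ⟨m - 4, by omega⟩
  exact lt3q_of_iso p e (Cfsg.Agent.Helper8.Af13.af13_minus F p k a b hab)

end Cfsg.Agent.LT3
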