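import Mathlib
import Cfsg.Agent.Lead.SLBND

set_option autoImplicit false

/-! The split `(B, N)`-pair data of `SL_{m+1}(F)`: `B = U ⋊ T` with `U` the upper unitriangular
group (towards S4613). -/

namespace Cfsg.Agent.LT3

open Matrix Cfsg.Agent.Lead.SLBN Cfsg.Agent.Helper8.AutSLn

variable {F : Type*} [Field F] {m : ℕ}

/-- upper triangular matrices normalise the upper unitriangular group -/
theorem lt3_psl_conj_mem {b u : SpecialLinearGroup (Fin (m + 1)) F} (hb : b ∈ Bs F m)
    (hu : u ∈ UT F (m + 1)) : b * u * b⁻¹ ∈ UT F (m + 1) := by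
  have hbB : (b : Matrix (Fin (m + 1)) (Fin (m + 1)) F).BlockTriangular id := hb
  have hinv := upper_inv hbB
  have hbu : ((b : Matrix (Fin (m + 1)) (Fin (m + 1)) F) *
      (u : Matrix (Fin (m + 1)) (Fin (m + 1)) F)).BlockTriangular id :=
    BlockTriangular.mul hbB hu.1
  rw [mem_UT]
  refine ⟨?_, fun i => ?_⟩
  · change ((b : Matrix (Fin (m + 1)) (Fin (m + 1)) F) *
      (u : Matrix (Fin (m + 1)) (Fin (m + 1)) F) *
      ((b⁻¹ : SpecialLinearGroup (Fin (m + 1)) F) :
        Matrix (Fin (m + 1)) (Fin (m + 1)) F)).BlockTriangular id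
    exact BlockTriangular.mul hbu hinv
  · change ((b : Matrix (Fin (m + 1)) (Fin (m + 1)) F) *
      (u : Matrix (Fin (m + 1)) (Fin (m + 1)) F) *
      ((b⁻¹ : SpecialLinearGroup (Fin (m + 1)) F) :
        Matrix (Fin (m + 1)) (Fin (m + 1)) F)) i i = 1
    rw [diag_mul_of_upper hbu hinv, diag_mul_of_upper hbB hu.1, hu.2 i, mul_one,
      ← diag_mul_of_upper hbB hinv, coe_mul_inv, one_apply_eq]

/-- `B = U T` -/
theorem lt3_psl_sup_eq : UT F (m + 1) ⊔ (Bs F m ⊓ Ns F m) = Bs F m := by
  apply le_antisymm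
  · exact sup_le UT_le_Bs inf_le_left
  · intro b hb
    have hbB : (b : Matrix (Fin (m + 1)) (Fin (m + 1)) F).BlockTriangular id := hb
    have hdet : (Matrix.diagonal fun i => (b : Matrix (Fin (m + 1)) (Fin (m + 1)) F) i i).det = 1 := by
      rw [Matrix.det_diagonal, ← Matrix.det_of_isUpperTriangular hbB]
      exact b.2
    obtain ⟨t, ht⟩ : ∃ t : SpecialLinearGroup (Fin (m + 1)) F,
        (t : Matrix (Fin (m + 1)) (Fin (m + 1)) F) =
          Matrix.diagonal fun i => (b : Matrix (Fin (m + 1)) (Fin (m + 1)) F) i i :=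
      ⟨⟨_, hdet⟩, rfl⟩
    have htB : t ∈ Bs F m := by
      rw [mem_Bs, ht]
      exact blockTriangular_diagonal _
    have ht1 : MonoP (1 : Equiv.Perm (Fin (m + 1)))
        (t : Matrix (Fin (m + 1)) (Fin (m + 1)) F) := by
      intro i j hij
      rw [Equiv.Perm.one_apply] at hij
      rw [ht]
      exact Matrix.diagonal_apply_ne _ hij
    have hinvB : ((t⁻¹ : SpecialLinearGroup (Fin (m + 1)) F) :
        Matrix (Fin (m + 1)) (Fin (m + 1)) F).BlockTriangular id := upper_inv htB
    have htinv1 : MonoP (1 : Equiv.Perm (Fin (m + 1)))⁻¹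
        ((t⁻¹ : SpecialLinearGroup (Fin (m + 1)) F) : Matrix (Fin (m + 1)) (Fin (m + 1)) F) := by
      -- the inverse of a diagonal matrix of determinant one is diagonal
      have hdinv : ((t⁻¹ : SpecialLinearGroup (Fin (m + 1)) F) :
          Matrix (Fin (m + 1)) (Fin (m + 1)) F) =
          Matrix.diagonal fun i => ((b : Matrix (Fin (m + 1)) (Fin (m + 1)) F) i i)⁻¹ := by
        have hne : ∀ i, (b : Matrix (Fin (m + 1)) (Fin (m + 1)) F) i i ≠ 0 := by
          intro i hi
          have h1 : (Matrix.diagonal fun i => (b : Matrix (Fin (m + 1)) (Fin (m + 1)) F) i i).det = 0 := by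
            rw [Matrix.det_diagonal]
            exact Finset.prod_eq_zero (Finset.mem_univ i) hi
          rw [hdet] at h1
          exact one_ne_zero h1
        have h2 : (t : Matrix (Fin (m + 1)) (Fin (m + 1)) F) *
            (Matrix.diagonal fun i => ((b : Matrix (Fin (m + 1)) (Fin (m + 1)) F) i i)⁻¹) = 1 := by
          rw [ht, Matrix.diagonal_mul_diagonal]
          rw [← Matrix.diagonal_one]
          congr 1
          funext i
          exact mul_inv_cancel₀ (hne i)
        have h3 := coe_inv_mul t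
        calc ((t⁻¹ : SpecialLinearGroup (Fin (m + 1)) F) : Matrix (Fin (m + 1)) (Fin (m + 1)) F)
            = ((t⁻¹ : SpecialLinearGroup (Fin (m + 1)) F) : Matrix (Fin (m + 1)) (Fin (m + 1)) F) *
              ((t : Matrix (Fin (m + 1)) (Fin (m + 1)) F) *
                (Matrix.diagonal fun i => ((b : Matrix (Fin (m + 1)) (Fin (m + 1)) F) i i)⁻¹)) := by
              rw [h2, Matrix.mul_one]
          _ = _ := by rw [← Matrix.mul_assoc, h3, Matrix.one_mul]
      intro i j hij
      rw [inv_one, Equiv.Perm.one_apply] at hij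
      rw [hdinv]
      exact Matrix.diagonal_apply_ne _ hij
    have htN : t ∈ Ns F m := mem_Ns.mpr ⟨1, ht1, htinv1⟩
    have hu : b * t⁻¹ ∈ UT F (m + 1) := by
      rw [mem_UT]
      refine ⟨?_, fun i => ?_⟩
      · change ((b : Matrix (Fin (m + 1)) (Fin (m + 1)) F) *
          ((t⁻¹ : SpecialLinearGroup (Fin (m + 1)) F) :
            Matrix (Fin (m + 1)) (Fin (m + 1)) F)).BlockTriangular id
        exact BlockTriangular.mul hbB hinvB
      · have h1 := diag_mul_of_upper (mem_Bs.mp htB) hinvB i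
        rw [coe_mul_inv, one_apply_eq, ht, Matrix.diagonal_apply_eq] at h1
        change ((b : Matrix (Fin (m + 1)) (Fin (m + 1)) F) *
          ((t⁻¹ : SpecialLinearGroup (Fin (m + 1)) F) :
            Matrix (Fin (m + 1)) (Fin (m + 1)) F)) i i = 1
        rw [diag_mul_of_upper hbB hinvB]
        exact h1.symm
    have e : b = (b * t⁻¹) * t := by group
    rw [e]
    exact Subgroup.mul_mem_sup hu ⟨htB, htN⟩

/-- the data of the split `(B, N)`-pair of `SL_{m+1}(F)` in characteristic `p`. -/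
theorem lt3_psl_data [Fintype F] (p : ℕ) [Fact p.Prime] [CharP F p] (m : ℕ) :
    UT F (m + 1) ≤ (slBN F m).B ∧
    (∀ b ∈ (slBN F m).B, ∀ u ∈ UT F (m + 1), b * u * b⁻¹ ∈ UT F (m + 1)) ∧
    IsPGroup p (UT F (m + 1)) ∧ ¬ p ∣ (UT F (m + 1)).index ∧
    UT F (m + 1) ⊔ ((slBN F m).B ⊓ (slBN F m).N) = (slBN F m).B ∧
    Subgroup.center (SpecialLinearGroup (Fin (m + 1)) F) ≤ (slBN F m).B :=
  ⟨UT_le_Bs, fun _ hb _ hu => lt3_psl_conj_mem hb hu, isPGroup_UT p, not_dvd_index_UT p (m + 1),
    lt3_psl_sup_eq, center_le_Bs⟩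

end Cfsg.Agent.LT3
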