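import Mathlib
import Cfsg.Agent.LT3.PSLdata

set_option autoImplicit false

/-! The split `(B, N)`-pair data of `SL_{m+1}(F)` in the shape of the generic theorem of the
swarm LT3: every upper triangular matrix is a unitriangular one times a diagonal one. -/

namespace Cfsg.Agent.LT3

open Matrix Cfsg.Agent.Lead.SLBN Cfsg.Agent.Helper8.AutSLn

variable {F : Type*} [Field F] {m : ℕ}

/-- `B = U T`, elementwise -/
theorem lt3_psl_decomp {b : SpecialLinearGroup (Fin (m + 1)) F} (hb : b ∈ Bs F m) :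
    ∃ u ∈ UT F (m + 1), ∃ t ∈ Bs F m ⊓ Ns F m, b = u * t := by
  have hbB : (b : Matrix (Fin (m + 1)) (Fin (m + 1)) F).BlockTriangular id := hb
  have hdet : (Matrix.diagonal fun i => (b : Matrix (Fin (m + 1)) (Fin (m + 1)) F) i i).det = 1 := by
    rw [Matrix.det_diagonal, ← Matrix.det_of_isUpperTriangular hbB]
    exact b.2
  obtain ⟨t, ht⟩ : ∃ t : SpecialLinearGroup (Fin (m + 1)) F,
      (t : Matrix (Fin (m + 1)) (Fin (m + 1)) F) =
        Matrix.diagonal fun i => (b : Matrix (Fin (m + 1)) (Fin (m + 1)) F) i i :=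
    ⟨⟨_, hdet⟩, rfl⟩
  have htB : t ∈ Bs F m := by
    rw [mem_Bs, ht]
    exact blockTriangular_diagonal _
  have ht1 : MonoP (1 : Equiv.Perm (Fin (m + 1)))
      (t : Matrix (Fin (m + 1)) (Fin (m + 1)) F) := by
    intro i j hij
    rw [Equiv.Perm.one_apply] at hij
    rw [ht]
    exact Matrix.diagonal_apply_ne _ hij
  have hinvB : ((t⁻¹ : SpecialLinearGroup (Fin (m + 1)) F) :
      Matrix (Fin (m + 1)) (Fin (m + 1)) F).BlockTriangular id := upper_inv htB
  have htinv1 : MonoP (1 : Equiv.Perm (Fin (m + 1)))⁻¹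
      ((t⁻¹ : SpecialLinearGroup (Fin (m + 1)) F) : Matrix (Fin (m + 1)) (Fin (m + 1)) F) := by
    have hdinv : ((t⁻¹ : SpecialLinearGroup (Fin (m + 1)) F) :
        Matrix (Fin (m + 1)) (Fin (m + 1)) F) =
        Matrix.diagonal fun i => ((b : Matrix (Fin (m + 1)) (Fin (m + 1)) F) i i)⁻¹ := by
      have hne : ∀ i, (b : Matrix (Fin (m + 1)) (Fin (m + 1)) F) i i ≠ 0 := by
        intro i hi
        have h1 : (Matrix.diagonal fun i => (b : Matrix (Fin (m + 1)) (Fin (m + 1)) F) i i).det = 0 := by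
          rw [Matrix.det_diagonal]
          exact Finset.prod_eq_zero (Finset.mem_univ i) hi
        rw [hdet] at h1
        exact one_ne_zero h1
      have h2 : (t : Matrix (Fin (m + 1)) (Fin (m + 1)) F) *
          (Matrix.diagonal fun i => ((b : Matrix (Fin (m + 1)) (Fin (m + 1)) F) i i)⁻¹) = 1 := by
        rw [ht, Matrix.diagonal_mul_diagonal]
        rw [← Matrix.diagonal_one]
        congr 1
        funext i
        exact mul_inv_cancel₀ (hne i)
      have h3 := coe_inv_mul t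
      calc ((t⁻¹ : SpecialLinearGroup (Fin (m + 1)) F) : Matrix (Fin (m + 1)) (Fin (m + 1)) F)
          = ((t⁻¹ : SpecialLinearGroup (Fin (m + 1)) F) : Matrix (Fin (m + 1)) (Fin (m + 1)) F) *
            ((t : Matrix (Fin (m + 1)) (Fin (m + 1)) F) *
              (Matrix.diagonal fun i => ((b : Matrix (Fin (m + 1)) (Fin (m + 1)) F) i i)⁻¹)) := by
            rw [h2, Matrix.mul_one]
        _ = _ := by rw [← Matrix.mul_assoc, h3, Matrix.one_mul]
    intro i j hij
    rw [inv_one, Equiv.Perm.one_apply] at hij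
    rw [hdinv]
    exact Matrix.diagonal_apply_ne _ hij
  have htN : t ∈ Ns F m := mem_Ns.mpr ⟨1, ht1, htinv1⟩
  have hu : b * t⁻¹ ∈ UT F (m + 1) := by
    rw [mem_UT]
    refine ⟨?_, fun i => ?_⟩
    · change ((b : Matrix (Fin (m + 1)) (Fin (m + 1)) F) *
        ((t⁻¹ : SpecialLinearGroup (Fin (m + 1)) F) :
          Matrix (Fin (m + 1)) (Fin (m + 1)) F)).BlockTriangular id
      exact BlockTriangular.mul hbB hinvB
    · have h1 := diag_mul_of_upper (mem_Bs.mp htB) hinvB i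
      rw [coe_mul_inv, one_apply_eq, ht, Matrix.diagonal_apply_eq] at h1
      change ((b : Matrix (Fin (m + 1)) (Fin (m + 1)) F) *
        ((t⁻¹ : SpecialLinearGroup (Fin (m + 1)) F) :
          Matrix (Fin (m + 1)) (Fin (m + 1)) F)) i i = 1
      rw [diag_mul_of_upper hbB hinvB]
      exact h1.symm
  exact ⟨b * t⁻¹, hu, t, ⟨htB, htN⟩, by group⟩

/-- the distinguished generators of the `(B, N)`-pair of `SL_{m+1}(F)` are non-empty for `m ≥ 1` -/
theorem lt3_psl_S_nonempty (hm : 1 ≤ m) : (slBN F m).S.Nonempty :=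
  ⟨sgen F (⟨0, hm⟩ : Fin m), ⟨⟨0, hm⟩, rfl⟩⟩

/-- the data of the generic theorem, as an anonymous tuple -/
theorem lt3_psl_bn_data [Fintype F] (p : ℕ) [Fact p.Prime] [CharP F p] (hm : 1 ≤ m) :
    ∃ (P : Cfsg.BNPair (SpecialLinearGroup (Fin (m + 1)) F))
      (U : Subgroup (SpecialLinearGroup (Fin (m + 1)) F)),
      P.S.Nonempty ∧ IsPGroup p U ∧ ¬ p ∣ U.index ∧ U ≤ P.B ∧
      (∀ b ∈ P.B, ∀ u ∈ U, b * u * b⁻¹ ∈ U) ∧ (∀ b ∈ P.B, ∃ u ∈ U, ∃ t ∈ P.B ⊓ P.N, b = u * t) :=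
  ⟨slBN F m, UT F (m + 1), lt3_psl_S_nonempty hm, isPGroup_UT p, not_dvd_index_UT p (m + 1),
    UT_le_Bs, fun _ hb _ hu => lt3_psl_conj_mem hb hu, fun _ hb => lt3_psl_decomp hb⟩

end Cfsg.Agent.LT3
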