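import Mathlib
import Cfsg.Agent.Helper1.SUJm
import Cfsg.Agent.Helper8.SUCenter

set_option autoImplicit false

/-!
S4613 swarm "LT3", family `PSU_n`: the split `(B, N)`-pair data of the unitary group `UG n K` of
the antidiagonal form (`B = U (B ⊓ N)` with `U` a normal Sylow `p`-subgroup of `B`), in the shape
of the generic theorem, and the surjection `UG n F → PSU n F q` with central kernel.
-/

namespace Cfsg.Agent.LT3

open Matrix Cfsg Cfsg.Agent.Helper1.SUJ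

universe u

section data

variable {K : Type u} [Field K] [StarRing K] {n : ℕ}
variable (τ₀ : K) (hτ : star τ₀ = -τ₀) (hτ0 : τ₀ ≠ 0)

/-- `B = U (B ⊓ N)`, elementwise, in the unitary group. -/
theorem lt3_psu_decomp {b : UG n K} (hb : b ∈ Bsub n K) :
    ∃ u ∈ Usub n K, ∃ t ∈ Bsub n K ⊓ Nsub n K, b = u * t :=
  ⟨b * (dg b hb)⁻¹, mul_dg_inv_mem b hb, dg b hb, mem_inf_of_mono_one (dg_mono b hb),
    (inv_mul_cancel_right b (dg b hb)).symm⟩

/-- `B = U ⊔ (B ⊓ N)` in the unitary group. -/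
theorem lt3_psu_B_eq : Usub n K ⊔ (Bsub n K ⊓ Nsub n K) = Bsub n K := by
  apply le_antisymm
  · exact sup_le Usub_le_Bsub inf_le_left
  · intro b hb
    obtain ⟨u, hu, t, ht, rfl⟩ := lt3_psu_decomp hb
    exact Subgroup.mul_mem _ (Subgroup.mem_sup_left hu) (Subgroup.mem_sup_right ht)

include τ₀ hτ hτ0 in
/-- the `(B, N)`-pair of the unitary group has rank `≥ 1` for `n ≥ 2` -/
theorem lt3_psu_S_nonempty (hn : 2 ≤ n) : (suBN τ₀ hτ hτ0 n).S.Nonempty :=
  ⟨ngen τ₀ hτ hτ0 (⟨0, Nat.div_pos hn (by norm_num)⟩ : Fin (n / 2)), ⟨_, rfl⟩⟩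

include τ₀ hτ hτ0 in
/-- The family data of `S4613` for the unitary group `UG n K`, in the shape of the generic
theorem (an anonymous tuple). -/
theorem lt3_psu_bn_data [Fintype K] (p : ℕ) [Fact p.Prime] [CharP K p] (hn : 2 ≤ n) :
    ∃ (P : Cfsg.BNPair (UG n K)) (U : Subgroup (UG n K)),
      P.S.Nonempty ∧ IsPGroup p U ∧ ¬ p ∣ U.index ∧ U ≤ P.B ∧
      (∀ b ∈ P.B, ∀ u ∈ U, b * u * b⁻¹ ∈ U) ∧ (∀ b ∈ P.B, ∃ u ∈ U, ∃ t ∈ P.B ⊓ P.N, b = u * t) :=
  ⟨suBN τ₀ hτ hτ0 n, Usub n K, lt3_psu_S_nonempty τ₀ hτ hτ0 hn, isPGroup_Usub p,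
    not_dvd_index_Usub τ₀ hτ hτ0 p, Usub_le_Bsub, fun _ hb _ hu => conj_mem_Usub hb hu,
    fun _ hb => lt3_psu_decomp hb⟩

end data

/-- The family data of `S4613` for `PSU_n(q)`, `n ≥ 2`: on the unitary group `X = UG n F` of the
antidiagonal form over the field with `q²` elements, the data of the generic theorem, and a
surjection `X → PSU n F q` whose kernel is the centre of `X`. -/
theorem lt3_psu_cover {F : Type u} [Field F] [Fintype F] (p : ℕ) [Fact p.Prime] [CharP F p]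
    (n q : ℕ) (hF : Fintype.card F = q ^ 2) (hn : 2 ≤ n) :
    ∃ (_ : StarRing F),
      (∃ (P : Cfsg.BNPair (UG n F)) (U : Subgroup (UG n F)),
        P.S.Nonempty ∧ IsPGroup p U ∧ ¬ p ∣ U.index ∧ U ≤ P.B ∧
        (∀ b ∈ P.B, ∀ u ∈ U, b * u * b⁻¹ ∈ U) ∧
        (∀ b ∈ P.B, ∃ u ∈ U, ∃ t ∈ P.B ⊓ P.N, b = u * t)) ∧
      ∃ π : UG n F →* Cfsg.PSU n F q, Function.Surjective π ∧
        π.ker ≤ Subgroup.center (UG n F) := by
  let _ : StarRing F := Cfsg.Agent.Helper1.SUJ.starRingQ hF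
  have hstar : ∀ x : F, star x = x ^ q := fun _ => rfl
  obtain ⟨τ₀, hτ0, hτ⟩ := Cfsg.Agent.Helper8.SUCenter.exists_trace_zero hF
  have hτ' : star τ₀ = -τ₀ := by
    rw [hstar]
    exact eq_neg_of_add_eq_zero_left hτ
  obtain ⟨φ⟩ := Cfsg.Agent.Helper1.SUJ.exists_iso (n := n) hstar hF
  let π : UG n F →* Cfsg.PSU n F q :=
    (QuotientGroup.mk' (Subgroup.center (Cfsg.SU n F q))).comp φ.toMonoidHom
  have hker : π.ker ≤ Subgroup.center (UG n F) := by
    intro x hx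
    rw [MonoidHom.mem_ker] at hx
    change (QuotientGroup.mk' (Subgroup.center (Cfsg.SU n F q))) (φ x) = 1 at hx
    rw [← MonoidHom.mem_ker, QuotientGroup.ker_mk', Subgroup.mem_center_iff] at hx
    rw [Subgroup.mem_center_iff]
    intro g
    apply φ.injective
    rw [map_mul, map_mul]
    exact hx (φ g)
  exact ⟨inferInstance, lt3_psu_bn_data τ₀ hτ' hτ0 p hn, π,
    (QuotientGroup.mk'_surjective _).comp φ.surjective, hker⟩

end Cfsg.Agent.LT3
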