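import Mathlib
import Cfsg.Prelude.Def_Classical
import Cfsg.Prelude.Def_LieExceptional
import Cfsg.Agent.Lead.SpBNF
import Cfsg.Agent.Lead.SpFusE

set_option autoImplicit false

/-!
S4613 swarm "LT3", family PSp: the split `(B, N)`-pair data of `Sp_{2(k+1)}(K)` in the shape of
helper1's `lt3bn_Data` (anonymous tuple): `P = Lead.SpFus.spBN`, `U = Lead.SpFus.Usub`.
-/

namespace Cfsg.Agent.LT3

open Matrix Cfsg.Agent.Lead.SpFus Cfsg.Agent.Lead.SpBN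

/-- **PSp, BN data**: `Sp_{2(k+1)}(K)` (`K` finite of characteristic `p`) has a split `(B, N)`-pair
`B = U ⋊ T` with `U` a Sylow `p`-subgroup. -/
theorem lt3_psp_data {K : Type*} [Field K] [Fintype K] (p : ℕ) [Fact p.Prime] [CharP K p] (k : ℕ) :
    ∃ (P : Cfsg.BNPair (symplecticGroup (Fin (k + 1)) K))
      (U : Subgroup (symplecticGroup (Fin (k + 1)) K)),
      P.S.Nonempty ∧ IsPGroup p U ∧ ¬ p ∣ U.index ∧ U ≤ P.B ∧
      (∀ b ∈ P.B, ∀ u ∈ U, b * u * b⁻¹ ∈ U) ∧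
      (∀ b ∈ P.B, ∃ u ∈ U, ∃ t ∈ P.B ⊓ P.N, b = u * t) := by
  refine ⟨spBN K k, Usub K (k + 1), ⟨gen K none, none, rfl⟩, isPGroup_Usub p, ?_, Usub_le_Bsub, ?_, ?_⟩
  · rw [← coe_sylowU (K := K) (m := k + 1) p]
    exact Sylow.not_dvd_index (sylowU K (k + 1) p)
  · intro b hb u hu
    have hb' : b ∈ Bsub K (k + 1) := hb
    exact (Subgroup.mem_normalizer_iff.mp (Bsub_le_normalizer_Usub hb') u).mp hu
  · intro b hb
    have hb' : b ∈ Bsub K (k + 1) := hb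
    obtain ⟨u, hu, a, rfl⟩ := exists_unip_tor_of_mem_Bsub hb'
    exact ⟨u, hu, tor a, mem_inf_of_mono_one (tor_mono a), rfl⟩

end Cfsg.Agent.LT3
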