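import Mathlib
import Cfsg.Prelude.Def_Classical
import Cfsg.Agent.LT3.PSpData
import Cfsg.Agent.LT3.BNc
import Cfsg.Agent.LT3.BNe

set_option autoImplicit false

/-!
S4613 swarm "LT3", family PSp: the conclusion `lt3q_P p (PSp m F)` from helper1's generic `(B, N)`-pair
theorem (`lt3bn_main_of_step2` + `lt3bn_step2`) and the BN data `lt3_psp_data` of `Sp_{2m}(F)`, pushed to
the central quotient by `lt3bn_data_map`.
-/

namespace Cfsg.Agent.LT3

open Matrix

/-- **PSp**: a `p'`-automorphism of the simple group `PSp_{2m}(F)` (`F` finite of characteristic `p`)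
fixing a Sylow `p`-subgroup pointwise is trivial. -/
theorem lt3_psp {F : Type*} [Field F] [Fintype F] (p : ℕ) [Fact p.Prime] [CharP F p] (m : ℕ)
    (hm : 1 ≤ m) [IsSimpleGroup (Cfsg.PSp m F)] : lt3q_P p (Cfsg.PSp m F) := by
  obtain ⟨k, rfl⟩ : ∃ k, m = k + 1 := ⟨m - 1, by omega⟩
  have hd : lt3bn_Data p (Cfsg.PSp (k + 1) F) :=
    lt3bn_data_map (lt3_psp_data (K := F) p k)
      (QuotientGroup.mk' (Subgroup.center (symplecticGroup (Fin (k + 1)) F)))
      (QuotientGroup.mk'_surjective _) (by rw [QuotientGroup.ker_mk'])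
  exact lt3bn_main_of_step2 hd (fun P U hs α hfix s hs' => lt3bn_step2 hs α hfix hs')

/-- **PSp**, iso form (the `IsPSpChar` disjunct of `IsLieTypeChar`, with the data unpacked). -/
theorem lt3_psp_iso {G : Type*} [Group G] [Finite G] [IsSimpleGroup G] {F : Type*} [Field F]
    [Fintype F] (p : ℕ) [Fact p.Prime] [CharP F p] (m : ℕ) (hm : 1 ≤ m)
    (e : G ≃* Cfsg.PSp m F) : lt3q_P p G := by
  have : IsSimpleGroup (Cfsg.PSp m F) := e.symm.isSimpleGroup
  exact lt3q_of_iso p e (lt3_psp p m hm)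

end Cfsg.Agent.LT3
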