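import Mathlib
import Cfsg.Agent.LT3.Gen
import Cfsg.Agent.LT3.Quot
import Cfsg.Agent.Helper7.ChevRee29

set_option autoImplicit false

/-!
# Statement S4613 for the Ree groups of type `G₂` (helper8)

The twisted group `G¹` of type `G₂` has rank one: `G¹ = B¹ ∪ B¹ n₀ B¹`, `B¹ = U¹ H¹`, and `U¹` is a
Sylow `3`-subgroup. Hence the Sylow `3`-subgroups other than `U¹` are the `u • (n₀ • U¹)`, `u ∈ U¹`,
and the rank one form of the generic argument applies.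
-/

namespace Cfsg.Agent.LT3

open Cfsg Cfsg.Lie Cfsg.Agent.Helper7.Chev Matrix

section ree

variable {K : Type*} [Field K] [Fintype K] {m : ℕ}

/-- elements of `G¹` lying in `B` normalise `U¹` -/
theorem lt3_ree_borel_normalizer_h8 [CharP K 3] (g : ↥(twistedG2 K (3 ^ m)))
    (hg : (g : GL chevG2.Idx K) ∈ chevG2.borelSubgroup K) :
    g ∈ Subgroup.normalizer ((rU' K m : Subgroup ↥(twistedG2 K (3 ^ m))) : Set ↥(twistedG2 K (3 ^ m))) := by
  rw [Subgroup.mem_normalizer_iff]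
  intro x
  rw [mem_rU', mem_rU']
  have h1 := borel_le_normalizer_pos (F := K) good3_G2.toGood2 hg
  have h2 := Subgroup.mem_set_normalizer_iff.mp h1 (x : GL chevG2.Idx K)
  simpa using h2

/-- the rank one predicate for the twisted group of type `G₂` -/
theorem lt3_ree_good1_h8 (hK : Fintype.card K = 3 ^ (2 * m + 1)) :
    haveI : Fact (Nat.Prime 3) := ⟨Nat.prime_three⟩
    lt3_Good1 3 ↥(twistedG2 K (3 ^ m)) := by
  have : Fact (Nat.Prime 3) := ⟨Nat.prime_three⟩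
  have := charP_three_of_card (by omega) hK
  have hm := pow_card_three hK
  obtain ⟨n₀, hn₀, hn₀H⟩ := exists_rN_not_mem (K := K) (m := m) hm
  have hn₀G : n₀ ∈ twistedG2 K (3 ^ m) := (mem_rN.mp hn₀).2
  have hn₀B : n₀ ∉ chevG2.borelSubgroup K := rN_not_mem_borel hm hn₀ hn₀H
  have hHB : chevG2.diagonalSubgroup K ≤ chevG2.borelSubgroup K := le_sup_right
  -- A: elements of `B` fix `U¹`
  have hA : ∀ g : ↥(twistedG2 K (3 ^ m)), (g : GL chevG2.Idx K) ∈ chevG2.borelSubgroup K →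
      g • rUSylow hK = rUSylow hK := by
    intro g hg
    rw [Sylow.smul_eq_iff_mem_normalizer]
    exact lt3_ree_borel_normalizer_h8 g hg
  -- B: elements outside `B` move `U¹` into the `U¹`-orbit of `n₀ • U¹`
  have hB : ∀ g : ↥(twistedG2 K (3 ^ m)), (g : GL chevG2.Idx K) ∉ chevG2.borelSubgroup K →
      ∃ u ∈ (rUSylow hK : Subgroup ↥(twistedG2 K (3 ^ m))),
        g • rUSylow hK = u • ((⟨n₀, hn₀G⟩ : ↥(twistedG2 K (3 ^ m))) • rUSylow hK) := by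
    intro g hg
    rcases twistedG2_cover hm hn₀ hn₀H g.2 with h | ⟨b, hb, b', hb', e⟩
    · exact absurd (Subgroup.mem_inf.mp h).1 hg
    obtain ⟨u, hu, h, hh, rfl⟩ := (mem_borel_inf_twistedG2 hm).mp hb
    have huG : u ∈ twistedG2 K (3 ^ m) := (mem_rU.mp hu).2
    have hhG : h ∈ twistedG2 K (3 ^ m) := (mem_rH.mp hh).2
    have hb'G : b' ∈ twistedG2 K (3 ^ m) := (Subgroup.mem_inf.mp hb').2
    have hcG : n₀⁻¹ * h * n₀ ∈ twistedG2 K (3 ^ m) := mul_mem (mul_mem (inv_mem hn₀G) hhG) hn₀G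
    have hcB : n₀⁻¹ * h * n₀ ∈ chevG2.borelSubgroup K :=
      hHB (conj_mem_diagonal' (monomialSubgroup_le_normalizer good3_G2.toGood2 (mem_rN.mp hn₀).1)
        (mem_rH.mp hh).1)
    refine ⟨⟨u, huG⟩, (mem_rU' _).mpr (mem_rU.mp hu).1, ?_⟩
    have eg : g = (⟨u, huG⟩ : ↥(twistedG2 K (3 ^ m))) *
        ((⟨n₀, hn₀G⟩ : ↥(twistedG2 K (3 ^ m))) * ((⟨n₀⁻¹ * h * n₀, hcG⟩ : ↥(twistedG2 K (3 ^ m))) *
          (⟨b', hb'G⟩ : ↥(twistedG2 K (3 ^ m))))) := by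
      apply Subtype.ext
      rw [e]
      show u * h * n₀ * b' = u * (n₀ * (n₀⁻¹ * h * n₀ * b'))
      group
    rw [eg, mul_smul, mul_smul, mul_smul, hA ⟨b', hb'G⟩ (Subgroup.mem_inf.mp hb').1, hA ⟨_, hcG⟩ hcB]
  -- C: `n₀ • U¹ ≠ U¹`
  have hC : (⟨n₀, hn₀G⟩ : ↥(twistedG2 K (3 ^ m))) • rUSylow hK ≠ rUSylow hK := by
    intro hfix
    rw [Sylow.smul_eq_iff_mem_normalizer] at hfix
    have hbot : ∀ y : ↥(twistedG2 K (3 ^ m)), y ∈ rU' K m → y = 1 := by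
      intro y hy
      have h1 : (⟨n₀, hn₀G⟩ : ↥(twistedG2 K (3 ^ m)))⁻¹ * y * (⟨n₀, hn₀G⟩ : ↥(twistedG2 K (3 ^ m))) ∈
          rU' K m := by
        have := (Subgroup.mem_normalizer_iff.mp (inv_mem hfix) y).mp hy
        rwa [inv_inv] at this
      rw [mem_rU'] at hy h1
      apply Subtype.ext
      exact ree_TI hm hn₀G hn₀B hy h1
    have hcard : Nat.card ↥(rU' K m) = 1 := by
      rw [Nat.card_eq_one_iff_unique]
      exact ⟨⟨fun a b => Subtype.ext ((hbot a a.2).trans (hbot b b.2).symm)⟩, ⟨1⟩⟩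
    rw [card_rU' hK] at hcard
    have h3 : 3 ≤ (3 ^ (2 * m + 1)) ^ 3 := by
      calc 3 = 3 ^ 1 := by norm_num
        _ ≤ 3 ^ ((2 * m + 1) * 3) := Nat.pow_le_pow_right (by norm_num) (by omega)
        _ = (3 ^ (2 * m + 1)) ^ 3 := by rw [pow_mul]
    omega
  -- every Sylow subgroup other than `U¹` is in the `U¹`-orbit of `n₀ • U¹`
  have hD : ∀ Q : Sylow 3 ↥(twistedG2 K (3 ^ m)), Q ≠ rUSylow hK →
      ∃ u ∈ (rUSylow hK : Subgroup ↥(twistedG2 K (3 ^ m))),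
        Q = u • ((⟨n₀, hn₀G⟩ : ↥(twistedG2 K (3 ^ m))) • rUSylow hK) := by
    intro Q hQ
    obtain ⟨g, rfl⟩ := MulAction.exists_smul_eq ↥(twistedG2 K (3 ^ m)) (rUSylow hK) Q
    by_cases hg : (g : GL chevG2.Idx K) ∈ chevG2.borelSubgroup K
    · exact absurd (hA g hg) hQ
    · exact hB g hg
  refine ⟨rUSylow hK, ⟨_, hC⟩, ?_⟩
  intro Q Q' hQ hQ'
  obtain ⟨u, hu, rfl⟩ := hD Q hQ
  obtain ⟨u', hu', rfl⟩ := hD Q' hQ'
  refine ⟨u' * u⁻¹, mul_mem hu' (inv_mem hu), ?_⟩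
  rw [← mul_smul, inv_mul_cancel_right]

/-- S4613 for the twisted group of type `G₂` -/
theorem lt3_ree_h8 (K : Type*) [Field K] [Fintype K] (m : ℕ) (hm1 : 1 ≤ m)
    (hK : Fintype.card K = 3 ^ (2 * m + 1)) : lt3q_P 3 ↥(twistedG2 K (3 ^ m)) := by
  have : Fact (Nat.Prime 3) := ⟨Nat.prime_three⟩
  have : IsSimpleGroup ↥(twistedG2 K (3 ^ m)) := (ree_S1073 hm1 hK).1
  intro α hα V hfix
  exact lt3_of_good1 3 (lt3_ree_good1_h8 hK) α hα V hfix

end ree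

/-- S4613 for a group satisfying `Cfsg.Lie.IsoRee`. -/
theorem lt3_ree_iso_h8 {G : Type*} [Group G] (hG : Cfsg.Lie.IsoRee G) : lt3q_P 3 G := by
  have : Fact (Nat.Prime 3) := ⟨Nat.prime_three⟩
  obtain ⟨K, _, _, m, hm, hc, ⟨e⟩⟩ := hG
  exact lt3q_of_iso 3 e (lt3_ree_h8 K m hm hc)

end Cfsg.Agent.LT3
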