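import Mathlib
import Cfsg.Agent.LT3.Gen
import Cfsg.Agent.LT3.Quot
import Cfsg.Agent.Helper7.SzSetup
import Cfsg.Agent.Helper7.SzLie
import Cfsg.Agent.Helper8.SzMaxC
import Cfsg.Agent.S0325

set_option autoImplicit false

/-!
# Statement S4613 for the Suzuki groups (helper8)

The Suzuki group acts doubly transitively on its ovoid, the stabiliser of the point at infinity is
the normaliser of the standard Sylow `2`-subgroup, and that Sylow subgroup is regular on the other
points. By the rank one form of the generic argument, an automorphism of odd order fixing a Sylow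
`2`-subgroup pointwise is trivial.
-/

namespace Cfsg.Agent.LT3

open Cfsg.Agent.Helper7.Sz Cfsg.Agent.Helper7 MulAction

/-- the rank one predicate for the matrix model of the Suzuki group -/
theorem lt3_sz_good1_h8 {F : Type*} [Field F] [Fintype F] {m : ℕ} (h : FH F m) :
    have : Fact (Nat.Prime 2) := ⟨Nat.prime_two⟩
    lt3_Good1 2 (Cfsg.Sz F m) := by
  have : Fact (Nat.Prime 2) := ⟨Nat.prime_two⟩
  have hS := Cfsg.Agent.Helper7.Sz.setup h
  have : IsPretransitive (Cfsg.Sz F m) (Cfsg.suzukiOvoid F m) := by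
    have h2 := hS.two
    refine ⟨fun x y => ?_⟩
    by_cases hxy : x = y
    · exact ⟨1, by rw [one_smul, hxy]⟩
    · obtain ⟨g, hg1, -⟩ := (is_two_pretransitive_iff.1 h2) hxy (Ne.symm hxy)
      exact ⟨g, hg1⟩
  refine lt3_good1_of_action 2 (Cfsg.Agent.Helper8.SzMax.UsubSylow h) (ωinf m) ?_ hS.ne ?_
  · exact hS.normalizer_eq.symm
  · intro y z hy hz
    obtain ⟨s, hs, -⟩ := hS.reg y z hy hz
    exact ⟨(s : Cfsg.Sz F m), s.2, hs⟩

/-- S4613 for the matrix model of the Suzuki group -/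
theorem lt3_sz_model_h8 {F : Type*} [Field F] [Fintype F] {m : ℕ} (h : FH F m) :
    lt3q_P 2 (Cfsg.Sz F m) := by
  have : Fact (Nat.Prime 2) := ⟨Nat.prime_two⟩
  have : IsSimpleGroup (Cfsg.Sz F m) := Cfsg.Agent.S0325.result h.hm h.card
  intro α hα V hfix
  exact lt3_of_good1 2 (lt3_sz_good1_h8 h) α hα V hfix

/-- S4613 for the Suzuki groups, in the form of the predicate `Cfsg.Lie.IsoSuzuki`. -/
theorem lt3_sz_h8 (F : Type*) [Field F] [Fintype F] (m : ℕ) (hm : 1 ≤ m)
    (hc : Fintype.card F = 2 ^ (2 * m + 1)) : lt3q_P 2 (Cfsg.Lie.Sz F (2 ^ (m + 1))) := by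
  have : Fact (Nat.Prime 2) := ⟨Nat.prime_two⟩
  have h : FH F m := ⟨hm, hc⟩
  exact lt3q_of_iso 2 (Cfsg.Agent.Helper7.SzLie.lieEquiv h).symm (lt3_sz_model_h8 h)

/-- S4613 for a group satisfying `Cfsg.Lie.IsoSuzuki`. -/
theorem lt3_sz_iso_h8 {G : Type*} [Group G] (hG : Cfsg.Lie.IsoSuzuki G) : lt3q_P 2 G := by
  have : Fact (Nat.Prime 2) := ⟨Nat.prime_two⟩
  obtain ⟨F, _, _, m, hm, hc, ⟨e⟩⟩ := hG
  exact lt3q_of_iso 2 e (lt3_sz_h8 F m hm hc)

end Cfsg.Agent.LT3
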