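import Mathlib
import Cfsg.Agent.Helper7.ChevTw9
import Cfsg.Agent.Helper7.ChevTwE6
import Cfsg.Agent.Helper7.ChevTwD4

set_option autoImplicit false
set_option linter.unusedSectionVars false
set_option linter.unusedVariables false

/-!
# LT3 (S4613): the BN half for the twisted groups `²E₆(q)` and `³D₄(q)`

From helper7's twisted `(B, N)`-pair (`exists_bnPair_tw`, S1085 / S1087) and `B ⊓ G¹ = U¹ H¹`
(`borel_inf_twGroup`, `twB_decomp`, `twH_le_normalizer`) we produce the per-family deliverable of the generic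
BN theorem (helper1's `lt3bn_Data p X`, written out as the anonymous tuple), with the Sylow property of
`U¹ = U ⊓ G¹` as a HYPOTHESIS (delivered by helper5's `lt3_e6_syl` / `lt3_d4_syl`).
-/

namespace Cfsg.Agent.LT3

open Cfsg Cfsg.Lie Matrix Cfsg.Agent.Helper7.Chev

section tw

variable {D : ChevalleyDatum} {K : Type*} [Field K]

variable (hG : Good2 D) (hT : T0 D) (h3 : (tabOf D).T3) (h4 : (tabOf D).T4 60) (h5 : (tabOf D).T5)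
  (h6 : (tabOf D).T6) (h7 : (tabOf D).T7) (h8 : (tabOf D).T8) (h9 : (tabOf D).T9)
  {ρ ρ' σ σ' : ℕ → ℕ} {ε : ℕ → ℤ} (h18 : T18 D ρ ρ' σ σ' ε) {cls : List (ℕ × ℕ)}
  (h19 : T19 D ρ σ cls) (h20 : (tabOf D).T20 ρ cls) (f : K ≃+* K)

include hT h3 h4 h5 h6 h7 h8 h9 h18 h20 in
/-- The BN data of a twisted group `G¹ = twGroup`, with `U := U¹ = (U ⊓ G¹)` as a subgroup of `G¹`;
the Sylow property of `U¹` is a hypothesis. -/
theorem lt3_tw_bn_data (p : ℕ) {c : ℕ × ℕ} (hc : c ∈ cls)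
    (hsyl : IsPGroup p ↥((D.posUnipotent K ⊓ twGroup hG h3 h4 h19 f).subgroupOf (twGroup hG h3 h4 h19 f)) ∧
      ¬ p ∣ ((D.posUnipotent K ⊓ twGroup hG h3 h4 h19 f).subgroupOf (twGroup hG h3 h4 h19 f)).index) :
    ∃ (P : Cfsg.BNPair ↥(twGroup hG h3 h4 h19 f)) (U : Subgroup ↥(twGroup hG h3 h4 h19 f)),
      P.S.Nonempty ∧ IsPGroup p U ∧ ¬ p ∣ U.index ∧ U ≤ P.B ∧
      (∀ b ∈ P.B, ∀ u ∈ U, b * u * b⁻¹ ∈ U) ∧
      (∀ b ∈ P.B, ∃ u ∈ U, ∃ t ∈ P.B ⊓ P.N, b = u * t) := by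
  obtain ⟨P, hB, hN, hS⟩ := exists_bnPair_tw hG hT h3 h4 h5 h6 h7 h8 h9 h18 h19 h20 f
  have hBeq := borel_inf_twGroup hG hT h3 h4 h5 h6 h7 h8 h9 h18 h19 h20 f
  refine ⟨P, (D.posUnipotent K ⊓ twGroup hG h3 h4 h19 f).subgroupOf (twGroup hG h3 h4 h19 f),
    ?_, hsyl.1, hsyl.2, ?_, ?_, ?_⟩
  · -- `S` is nonempty
    have hmem : clsHom hG h3 h4 h19 f hc antiSL ∈ twGroup hG h3 h4 h19 f := by
      have h1 : clsHom hG h3 h4 h19 f hc antiSL ∈ twN hG h3 h4 h19 f :=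
        twS_le_twN hG h3 h4 h19 f (Subgroup.subset_closure ⟨c, hc, rfl⟩)
      exact ((mem_twN hG h3 h4 h19 f).mp h1).2
    refine ⟨⟨clsHom hG h3 h4 h19 f hc antiSL, hmem⟩, ?_⟩
    rw [hS]
    exact ⟨c, hc, rfl⟩
  · -- `U¹ ≤ B¹`
    intro x hx
    rw [hB]
    rw [Subgroup.mem_subgroupOf, Subgroup.mem_inf] at hx ⊢
    exact ⟨Subgroup.mem_sup_left hx.1, hx.2⟩
  · -- `B¹` normalises `U¹`
    intro b hb u hu
    rw [hB, Subgroup.mem_subgroupOf, hBeq] at hb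
    rw [Subgroup.mem_subgroupOf] at hu ⊢
    have hnorm : twB hG h3 h4 h19 f ≤
        Subgroup.normalizer (twU hG h3 h4 h19 f : Set (GL D.Idx K)) :=
      sup_le Subgroup.le_normalizer (twH_le_normalizer hG h3 h4 h19 f)
    have h1 := (Subgroup.mem_set_normalizer_iff.mp (hnorm hb) (u : GL D.Idx K)).mp hu
    have h2 : ((b * u * b⁻¹ : ↥(twGroup hG h3 h4 h19 f)) : GL D.Idx K) =
        (b : GL D.Idx K) * (u : GL D.Idx K) * (b : GL D.Idx K)⁻¹ := by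
      push_cast
      rfl
    rw [h2]
    exact h1
  · -- `B¹ = U¹ H¹`
    intro b hb
    rw [hB, Subgroup.mem_subgroupOf, hBeq] at hb
    obtain ⟨u, hu, h, hh, e⟩ := twB_decomp hG h3 h4 h19 f hb
    have huG : u ∈ twGroup hG h3 h4 h19 f := ((mem_twU hG h3 h4 h19 f).mp hu).2
    have hhG : h ∈ twGroup hG h3 h4 h19 f := ((mem_twH hG h3 h4 h19 f).mp hh).2
    refine ⟨⟨u, huG⟩, ?_, ⟨h, hhG⟩, ?_, ?_⟩
    · rw [Subgroup.mem_subgroupOf]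
      exact hu
    · rw [Subgroup.mem_inf, hB, hN, Subgroup.mem_subgroupOf, Subgroup.mem_subgroupOf]
      refine ⟨Subgroup.mem_inf.mpr ⟨Subgroup.mem_sup_right ((mem_twH hG h3 h4 h19 f).mp hh).1, hhG⟩, ?_⟩
      exact twH_le_twN hG h3 h4 h19 f hh
    · apply Subtype.ext
      rw [Subgroup.coe_mul]
      exact e

end tw

/-- **`²E₆(q)`**: BN data (tuple shape of `lt3bn_Data p ↥(twistedE6 K q)`), Sylow part as hypothesis. -/
theorem lt3_e6_bn {K : Type*} [Field K] [Fintype K] {q : ℕ} (hq : IsPrimePow q)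
    (hK : Fintype.card K = q ^ 2) (p : ℕ)
    (hsyl : IsPGroup p ↥((chevE6.posUnipotent K ⊓ twistedE6 K q).subgroupOf (twistedE6 K q)) ∧
      ¬ p ∣ ((chevE6.posUnipotent K ⊓ twistedE6 K q).subgroupOf (twistedE6 K q)).index) :
    ∃ (P : Cfsg.BNPair ↥(twistedE6 K q)) (U : Subgroup ↥(twistedE6 K q)),
      P.S.Nonempty ∧ IsPGroup p U ∧ ¬ p ∣ U.index ∧ U ≤ P.B ∧
      (∀ b ∈ P.B, ∀ u ∈ U, b * u * b⁻¹ ∈ U) ∧
      (∀ b ∈ P.B, ∃ u ∈ U, ∃ t ∈ P.B ⊓ P.N, b = u * t) := by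
  obtain ⟨f, hf, hf2, e⟩ := twistedE6_eq hq hK
  rw [e] at hsyl ⊢
  exact lt3_tw_bn_data good2_E6 T0_E6 T3_E6 T4_E6 T5_E6 T6_E6 T7_E6 T8_E6 T9_E6
    T18_E6 T19_E6 T20_E6 f p (c := (1, 1)) (by decide) hsyl

/-- **`³D₄(q)`**: BN data (tuple shape of `lt3bn_Data p ↥(twistedD4 K q)`), Sylow part as hypothesis. -/
theorem lt3_d4_bn {K : Type*} [Field K] [Fintype K] {q : ℕ} (hq : IsPrimePow q)
    (hK : Fintype.card K = q ^ 3) (p : ℕ)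
    (hsyl : IsPGroup p ↥((chevD4.posUnipotent K ⊓ twistedD4 K q).subgroupOf (twistedD4 K q)) ∧
      ¬ p ∣ ((chevD4.posUnipotent K ⊓ twistedD4 K q).subgroupOf (twistedD4 K q)).index) :
    ∃ (P : Cfsg.BNPair ↥(twistedD4 K q)) (U : Subgroup ↥(twistedD4 K q)),
      P.S.Nonempty ∧ IsPGroup p U ∧ ¬ p ∣ U.index ∧ U ≤ P.B ∧
      (∀ b ∈ P.B, ∀ u ∈ U, b * u * b⁻¹ ∈ U) ∧
      (∀ b ∈ P.B, ∃ u ∈ U, ∃ t ∈ P.B ⊓ P.N, b = u * t) := by
  obtain ⟨f, hf, hf3, e⟩ := twistedD4_eq hq hK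
  rw [e] at hsyl ⊢
  exact lt3_tw_bn_data good2_D4 T0_D4 T3_D4 T4_D4 T5_D4 T6_D4 T7_D4 T8_D4 T9_D4
    T18_D4a T19_D4 T20_D4 f p (c := (1, 1)) (by decide) hsyl

end Cfsg.Agent.LT3
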