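import Mathlib
import Cfsg.Agent.Helper7.ChevTwO5
import Cfsg.Agent.Helper7.ChevTwO6

set_option autoImplicit false

/-!
# LT3, `²E₆(q)` and `³D₄(q)` in characteristic `p`: the fixed points `U¹` of the unipotent
group form a Sylow `p`-subgroup (helper5)
-/

namespace Cfsg.Agent.LT3

open Cfsg Cfsg.Lie Cfsg.Agent.Helper7.Chev

section arithmetic

variable {p : ℕ}

theorem lt3tw_not_dvd_sub (hp : p.Prime) {Q : ℕ} (hQ : p ∣ Q) (hQ0 : 0 < Q) (k : ℕ) (hk : k ≠ 0) :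
    ¬ p ∣ Q ^ k - 1 := by
  intro h
  have h1 : p ∣ Q ^ k := dvd_pow hQ hk
  have h2 : 0 < Q ^ k := pow_pos hQ0 k
  have h3 : Q ^ k - 1 + 1 = Q ^ k := Nat.sub_add_cancel h2
  rw [← h3] at h1
  exact hp.one_lt.ne' (Nat.dvd_one.1 ((Nat.dvd_add_right h).1 h1))

theorem lt3tw_not_dvd_add (hp : p.Prime) {Q : ℕ} (hQ : p ∣ Q) (k : ℕ) (hk : k ≠ 0) :
    ¬ p ∣ Q ^ k + 1 := by
  intro h
  have h1 : p ∣ Q ^ k := dvd_pow hQ hk
  exact hp.one_lt.ne' (Nat.dvd_one.1 ((Nat.dvd_add_right h1).1 h))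

theorem lt3tw_not_dvd_mul (hp : p.Prime) {a b : ℕ} (ha : ¬ p ∣ a) (hb : ¬ p ∣ b) :
    ¬ p ∣ a * b := by
  intro h
  rcases (Nat.Prime.dvd_mul hp).mp h with h | h
  · exact ha h
  · exact hb h

theorem lt3tw_e6_cofactor (hp : p.Prime) {Q : ℕ} (hQ : p ∣ Q) (hQ0 : 0 < Q) :
    ¬ p ∣ (Q ^ 2 - 1) * (Q ^ 5 + 1) * (Q ^ 6 - 1) * (Q ^ 8 - 1) * (Q ^ 9 + 1) * (Q ^ 12 - 1) := by
  refine lt3tw_not_dvd_mul hp (lt3tw_not_dvd_mul hp (lt3tw_not_dvd_mul hp (lt3tw_not_dvd_mul hp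
    (lt3tw_not_dvd_mul hp ?_ ?_) ?_) ?_) ?_) ?_
  · exact lt3tw_not_dvd_sub hp hQ hQ0 2 (by norm_num)
  · exact lt3tw_not_dvd_add hp hQ 5 (by norm_num)
  · exact lt3tw_not_dvd_sub hp hQ hQ0 6 (by norm_num)
  · exact lt3tw_not_dvd_sub hp hQ hQ0 8 (by norm_num)
  · exact lt3tw_not_dvd_add hp hQ 9 (by norm_num)
  · exact lt3tw_not_dvd_sub hp hQ hQ0 12 (by norm_num)

theorem lt3tw_d4_cofactor (hp : p.Prime) {Q : ℕ} (hQ : p ∣ Q) (hQ0 : 0 < Q) :
    ¬ p ∣ (Q ^ 2 - 1) * (Q ^ 6 - 1) * (Q ^ 8 + Q ^ 4 + 1) := by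
  refine lt3tw_not_dvd_mul hp (lt3tw_not_dvd_mul hp ?_ ?_) ?_
  · exact lt3tw_not_dvd_sub hp hQ hQ0 2 (by norm_num)
  · exact lt3tw_not_dvd_sub hp hQ hQ0 6 (by norm_num)
  · intro h
    have h1 : p ∣ Q ^ 8 + Q ^ 4 :=
      dvd_add (dvd_pow hQ (by norm_num)) (dvd_pow hQ (by norm_num))
    exact hp.one_lt.ne' (Nat.dvd_one.1 ((Nat.dvd_add_right h1).1 h))

end arithmetic

variable {K : Type*} [Field K] [Fintype K]

/-- In characteristic `p`, a prime power `q` with `|K| = q ^ e` is a power of `p`. -/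
theorem lt3tw_q_pow (p : ℕ) [hp : Fact p.Prime] [CharP K p] {q : ℕ} (hq : IsPrimePow q) {e : ℕ}
    (he : e ≠ 0) (hK : Fintype.card K = q ^ e) : ∃ a : ℕ, a ≠ 0 ∧ q = p ^ a := by
  obtain ⟨n, -, hn⟩ := FiniteField.card K p
  have hdvd : q ∣ p ^ (n : ℕ) := by
    rw [← hn, hK]
    exact dvd_pow_self q he
  obtain ⟨a, -, rfl⟩ := (Nat.dvd_prime_pow hp.out).1 hdvd
  refine ⟨a, ?_, rfl⟩
  rintro rfl
  exact absurd hq.one_lt (by norm_num)

/-- `U¹` as a subgroup of `²E₆(q)`, `q` a power of `p`, is a `p`-group of index prime to `p`. -/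
theorem lt3_e6_syl (p : ℕ) [hp : Fact p.Prime] [CharP K p] {q : ℕ} (hq : IsPrimePow q)
    (hK : Fintype.card K = q ^ 2) :
    IsPGroup p ↥((chevE6.posUnipotent K ⊓ twistedE6 K q).subgroupOf (twistedE6 K q)) ∧
    ¬ p ∣ ((chevE6.posUnipotent K ⊓ twistedE6 K q).subgroupOf (twistedE6 K q)).index := by
  obtain ⟨a, ha, hqa⟩ := lt3tw_q_pow p hq (by norm_num : (2 : ℕ) ≠ 0) hK
  have hpq : p ∣ q := by rw [hqa]; exact dvd_pow_self p ha
  have hpos : 0 < q := hq.pos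
  set U : Subgroup (GL chevE6.Idx K) := chevE6.posUnipotent K ⊓ twistedE6 K q with hU
  set G : Subgroup (GL chevE6.Idx K) := twistedE6 K q with hG
  have hle : U ≤ G := inf_le_right
  have hcU : Nat.card ↥(U.subgroupOf G) = q ^ 36 := by
    rw [Nat.card_congr (Subgroup.subgroupOfEquivOfLe hle).toEquiv]
    exact twE6_card_U hq hK
  have hcG := twE6_card hq hK
  constructor
  · apply IsPGroup.of_card (n := a * 36)
    rw [hcU, hqa, pow_mul]
  · intro hdvd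
    have h1 := (U.subgroupOf G).card_mul_index
    rw [hcU] at h1
    rw [← hG, ← h1] at hcG
    have h2 : q ^ 36 * (Nat.gcd 3 (q + 1) * (U.subgroupOf G).index) =
        q ^ 36 * ((q ^ 2 - 1) * (q ^ 5 + 1) * (q ^ 6 - 1) * (q ^ 8 - 1) * (q ^ 9 + 1) *
          (q ^ 12 - 1)) := by
      rw [← mul_assoc, mul_comm (q ^ 36), mul_assoc, hcG]
      ring
    have h3 := Nat.eq_of_mul_eq_mul_left (by positivity) h2
    apply lt3tw_e6_cofactor hp.out hpq hpos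
    rw [← h3]
    exact Dvd.dvd.mul_left hdvd _

/-- `U¹` as a subgroup of `³D₄(q)`, `q` a power of `p`, is a `p`-group of index prime to `p`. -/
theorem lt3_d4_syl (p : ℕ) [hp : Fact p.Prime] [CharP K p] {q : ℕ} (hq : IsPrimePow q)
    (hK : Fintype.card K = q ^ 3) :
    IsPGroup p ↥((chevD4.posUnipotent K ⊓ twistedD4 K q).subgroupOf (twistedD4 K q)) ∧
    ¬ p ∣ ((chevD4.posUnipotent K ⊓ twistedD4 K q).subgroupOf (twistedD4 K q)).index := by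
  obtain ⟨a, ha, hqa⟩ := lt3tw_q_pow p hq (by norm_num : (3 : ℕ) ≠ 0) hK
  have hpq : p ∣ q := by rw [hqa]; exact dvd_pow_self p ha
  have hpos : 0 < q := hq.pos
  set U : Subgroup (GL chevD4.Idx K) := chevD4.posUnipotent K ⊓ twistedD4 K q with hU
  set G : Subgroup (GL chevD4.Idx K) := twistedD4 K q with hG
  have hle : U ≤ G := inf_le_right
  have hcU : Nat.card ↥(U.subgroupOf G) = q ^ 12 := by
    rw [Nat.card_congr (Subgroup.subgroupOfEquivOfLe hle).toEquiv]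
    exact twD4_card_U hq hK
  have hcG := twD4_card hq hK
  constructor
  · apply IsPGroup.of_card (n := a * 12)
    rw [hcU, hqa, pow_mul]
  · intro hdvd
    have h1 := (U.subgroupOf G).card_mul_index
    rw [hcU] at h1
    rw [← hG, ← h1] at hcG
    have h2 : q ^ 12 * (U.subgroupOf G).index =
        q ^ 12 * ((q ^ 2 - 1) * (q ^ 6 - 1) * (q ^ 8 + q ^ 4 + 1)) := by
      rw [hcG]
      ring
    have h3 := Nat.eq_of_mul_eq_mul_left (by positivity) h2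
    apply lt3tw_d4_cofactor hp.out hpq hpos
    rw [← h3]
    exact hdvd

end Cfsg.Agent.LT3
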