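import Mathlib
import Cfsg.Prelude.Def_LieTypeChar
import Cfsg.Agent.LT3.Quot
import Cfsg.Agent.LT3.BNf
import Cfsg.Agent.LT3.PSLbn
import Cfsg.Agent.LT3.PSp
import Cfsg.Agent.LT3.PSU
import Cfsg.Agent.LT3.POmegaH8
import Cfsg.Agent.LT3.ChevData
import Cfsg.Agent.LT3.TwE6D4BN
import Cfsg.Agent.LT3.TwE6D4Syl
import Cfsg.Agent.LT3.Sz
import Cfsg.Agent.LT3.F4Data
import Cfsg.Agent.LT3.Ree

set_option autoImplicit false

/-!
S4613 (swarm "LT3", architect helper1): assembly of the family theorems.  A `p'`-automorphism of a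
simple group of Lie type in characteristic `p` that fixes a Sylow `p`-subgroup pointwise is trivial.
Every family goes through `lt3q_P p _` (`LT3/Quot.lean`), which unfolds to the conclusion of S4613.
-/

namespace Cfsg.Agent.LT3

open Cfsg

/-- `PSL_n(F)`, `n ≥ 2`, simple: the BN data of `SL_n(F)` pushed along `SL → PSL`. -/
theorem lt3_asm_psl {G : Type*} [Group G] [Finite G] [IsSimpleGroup G] {F : Type*} [Field F]
    [Fintype F] (p : ℕ) [Fact p.Prime] [CharP F p] (n : ℕ) (hn : 2 ≤ n)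
    (e : G ≃* Matrix.ProjectiveSpecialLinearGroup (Fin n) F) : lt3q_P p G := by
  obtain ⟨m, rfl⟩ : ∃ m, n = m + 1 := ⟨n - 1, by omega⟩
  have hm : 1 ≤ m := by omega
  have hd : lt3bn_Data p (Matrix.SpecialLinearGroup (Fin (m + 1)) F) := lt3_psl_bn_data p hm
  let π : Matrix.SpecialLinearGroup (Fin (m + 1)) F →* G :=
    e.symm.toMonoidHom.comp
      (QuotientGroup.mk' (Subgroup.center (Matrix.SpecialLinearGroup (Fin (m + 1)) F)))
  have hπ : Function.Surjective π :=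
    e.symm.surjective.comp (QuotientGroup.mk'_surjective _)
  have hker : π.ker ≤ Subgroup.center (Matrix.SpecialLinearGroup (Fin (m + 1)) F) := by
    intro x hx
    rw [MonoidHom.mem_ker] at hx
    have h1 : (QuotientGroup.mk' (Subgroup.center (Matrix.SpecialLinearGroup (Fin (m + 1)) F))) x
        = 1 := (MulEquiv.map_eq_one_iff e.symm).mp hx
    rwa [← MonoidHom.mem_ker, QuotientGroup.ker_mk'] at h1
  exact lt3bn_main_cover hd π hπ hker

/-- `PSU_n(q)`, `n ≥ 2`, simple: helper9's cover `UG n F → PSU n F q`. -/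
theorem lt3_asm_psu {G : Type*} [Group G] [Finite G] [IsSimpleGroup G] {F : Type*} [Field F]
    [Fintype F] (p : ℕ) [Fact p.Prime] [CharP F p] (n q : ℕ) (hF : Fintype.card F = q ^ 2)
    (hn : 2 ≤ n) (e : G ≃* Cfsg.PSU n F q) : lt3q_P p G := by
  obtain ⟨_, hd, π, hπ, hker⟩ := lt3_psu_cover (F := F) p n q hF hn
  refine lt3bn_main_cover hd (e.symm.toMonoidHom.comp π) (e.symm.surjective.comp hπ) ?_
  intro x hx
  apply hker
  rw [MonoidHom.mem_ker] at hx ⊢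
  exact (MulEquiv.map_eq_one_iff e.symm).mp hx

theorem lt3_main {G : Type*} [Group G] [Finite G] [IsSimpleGroup G] (p : ℕ) [Fact p.Prime]
    (hG : Cfsg.IsLieTypeChar p G) : lt3q_P p G := by
  rcases hG with h | h | h | h | h | h | h | h | h | h | h
  · obtain ⟨F, _, _, _, n, hn, -, ⟨e⟩⟩ := h
    exact lt3_asm_psl p n hn e
  · obtain ⟨F, _, _, _, m, hm, -, ⟨e⟩⟩ := h
    exact lt3_psp_iso p m (by omega) e
  · obtain ⟨F, _, _, _, n, q, hF, hn, -, ⟨e⟩⟩ := h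
    exact lt3_asm_psu p n q hF (by omega) e
  · exact lt3_oo_h8 p h
  · exact lt3_op_h8 p h
  · exact lt3_om_h8 p h
  · obtain ⟨F, _, _, _, h⟩ := h
    rcases h with ⟨-, ⟨e⟩⟩ | ⟨⟨e⟩⟩ | ⟨⟨e⟩⟩ | ⟨⟨e⟩⟩ | ⟨⟨e⟩⟩
    · exact lt3bn_main_iso (lt3_chev_data (F := F) p Lie.chevG2 (by simp)) e.symm
    · exact lt3bn_main_iso (lt3_chev_data (F := F) p Lie.chevF4 (by simp)) e.symm
    · exact lt3bn_main_iso (lt3_chev_data (F := F) p Lie.chevE6 (by simp)) e.symm
    · exact lt3bn_main_iso (lt3_chev_data (F := F) p Lie.chevE7 (by simp)) e.symm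
    · exact lt3bn_main_iso (lt3_chev_data (F := F) p Lie.chevE8 (by simp)) e.symm
  · obtain ⟨K, _, _, _, q, hq, h⟩ := h
    rcases h with ⟨hK, ⟨e⟩⟩ | ⟨hK, ⟨e⟩⟩
    · exact lt3bn_main_iso (lt3_e6_bn hq hK p (lt3_e6_syl p hq hK)) e.symm
    · exact lt3bn_main_iso (lt3_d4_bn hq hK p (lt3_d4_syl p hq hK)) e.symm
  · obtain ⟨rfl, h⟩ := h
    exact lt3_sz_iso_h8 h
  · obtain ⟨rfl, h⟩ := h
    exact lt3_f4_iso h
  · obtain ⟨rfl, h⟩ := h
    exact lt3_ree_iso_h8 h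

end Cfsg.Agent.LT3
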