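import Mathlib
import Cfsg.Agent.LT3.PSLbn
import Cfsg.Agent.LT3.BNf

set_option autoImplicit false

namespace Cfsg.Agent.LT3

open Matrix

/-- S4613 for `PSL_{m+1}(F)`, `m ≥ 1`, whenever it is simple (in particular for `PSL_2`). -/
theorem lt3_psl_bn {F : Type*} [Field F] [Fintype F] (p : ℕ) [Fact p.Prime] [CharP F p] (m : ℕ)
    (hm : 1 ≤ m) [IsSimpleGroup (ProjectiveSpecialLinearGroup (Fin (m + 1)) F)] :
    lt3q_P p (ProjectiveSpecialLinearGroup (Fin (m + 1)) F) :=
  lt3bn_main_cover (lt3_psl_bn_data p hm)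
    (QuotientGroup.mk' (Subgroup.center (SpecialLinearGroup (Fin (m + 1)) F)))
    (QuotientGroup.mk'_surjective _) (by rw [QuotientGroup.ker_mk'])

/-- the same for `Fin 2` -/
theorem lt3_psl_two {F : Type*} [Field F] [Fintype F] (p : ℕ) [Fact p.Prime] [CharP F p]
    [IsSimpleGroup (ProjectiveSpecialLinearGroup (Fin 2) F)] :
    lt3q_P p (ProjectiveSpecialLinearGroup (Fin 2) F) :=
  lt3_psl_bn p 1 le_rfl

end Cfsg.Agent.LT3
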