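import Mathlib
import Cfsg.Agent.Helper7.Transvections
import Cfsg.Agent.Helper8.AutSLnB
import Cfsg.Agent.LT3.Quot

set_option autoImplicit false

/-!
S4613 swarm "LT3", family `PSL_n`, `n ≥ 3`: in `X = SL_n(F)` the row group `R_a` (identity except
row `a`) and the column group `C_b` (identity except column `b`) have centralisers `Z(X) · R_a`,
`Z(X) · C_b`; the stabilisers normalising them contain all elementary transvections but one, and
generate `X`.
-/

namespace Cfsg.Agent.LT3

open Matrix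

variable {F : Type*} [Field F] {ι : Type*} [Fintype ι] [DecidableEq ι]

/-- identity outside row `a`, with `1` at `(a, a)` -/
def lt3_psl_IsR (a : ι) (M : Matrix ι ι F) : Prop :=
  (∀ i, i ≠ a → ∀ j, M i j = (1 : Matrix ι ι F) i j) ∧ M a a = 1

theorem lt3_psl_IsR.mul {a : ι} {M N : Matrix ι ι F} (hM : lt3_psl_IsR a M)
    (hN : lt3_psl_IsR a N) : lt3_psl_IsR a (M * N) := by
  obtain ⟨hg, hga⟩ := hM
  obtain ⟨hh, hha⟩ := hN
  refine ⟨fun i hi j => ?_, ?_⟩
  · rw [Matrix.mul_apply]
    simp only [hg i hi]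
    rw [← Matrix.mul_apply, Matrix.one_mul, hh i hi]
  · rw [Matrix.mul_apply, Finset.sum_eq_single a, hga, hha, one_mul]
    · intro l _ hl
      rw [hh l hl, Matrix.one_apply_ne hl, mul_zero]
    · intro h
      exact absurd (Finset.mem_univ a) h

theorem lt3_psl_IsR.one (a : ι) : lt3_psl_IsR a (1 : Matrix ι ι F) :=
  ⟨fun _ _ _ => rfl, Matrix.one_apply_eq a⟩

theorem lt3_psl_IsR.of_inv {a : ι} {M N : Matrix ι ι F} (h1 : M * N = 1) (h2 : N * M = 1)
    (hM : lt3_psl_IsR a M) : lt3_psl_IsR a N := by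
  obtain ⟨hg, hga⟩ := hM
  have hrow : ∀ i, i ≠ a → ∀ j, N i j = (1 : Matrix ι ι F) i j := by
    intro i hi j
    have := congrFun (congrFun h1 i) j
    rw [Matrix.mul_apply] at this
    simp only [hg i hi] at this
    rw [← Matrix.mul_apply, Matrix.one_mul] at this
    exact this
  refine ⟨hrow, ?_⟩
  have := congrFun (congrFun h2 a) a
  rw [Matrix.mul_apply, Finset.sum_eq_single a, hga, mul_one, Matrix.one_apply_eq] at this
  · exact this
  · intro l _ hl
    rw [hg l hl, Matrix.one_apply_ne hl, mul_zero]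
  · intro h
    exact absurd (Finset.mem_univ a) h

theorem lt3_psl_coe_mul_inv (g : SpecialLinearGroup ι F) :
    (g : Matrix ι ι F) * ((g⁻¹ : SpecialLinearGroup ι F) : Matrix ι ι F) = 1 := by
  rw [← Matrix.SpecialLinearGroup.coe_mul, mul_inv_cancel, Matrix.SpecialLinearGroup.coe_one]

theorem lt3_psl_coe_inv_mul (g : SpecialLinearGroup ι F) :
    ((g⁻¹ : SpecialLinearGroup ι F) : Matrix ι ι F) * (g : Matrix ι ι F) = 1 := by
  rw [← Matrix.SpecialLinearGroup.coe_mul, inv_mul_cancel, Matrix.SpecialLinearGroup.coe_one]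

/-- the row group: identity outside row `a` -/
def lt3_psl_R (F : Type*) [Field F] {ι : Type*} [Fintype ι] [DecidableEq ι] (a : ι) :
    Subgroup (SpecialLinearGroup ι F) where
  carrier := {g | lt3_psl_IsR a (g : Matrix ι ι F)}
  mul_mem' := by
    intro g h hg hh
    change lt3_psl_IsR a ((g * h : SpecialLinearGroup ι F) : Matrix ι ι F)
    rw [Matrix.SpecialLinearGroup.coe_mul]
    exact hg.mul hh
  one_mem' := by
    change lt3_psl_IsR a ((1 : SpecialLinearGroup ι F) : Matrix ι ι F)
    rw [Matrix.SpecialLinearGroup.coe_one]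
    exact lt3_psl_IsR.one a
  inv_mem' := by
    intro g hg
    exact lt3_psl_IsR.of_inv (lt3_psl_coe_mul_inv g) (lt3_psl_coe_inv_mul g) hg

theorem lt3_psl_mem_R {a : ι} {g : SpecialLinearGroup ι F} :
    g ∈ lt3_psl_R F a ↔ lt3_psl_IsR a (g : Matrix ι ι F) := Iff.rfl

/-- the elementary transvections `1 + c E_{a k}` lie in the row group -/
theorem lt3_psl_transvection_mem_R {a k : ι} (hak : a ≠ k) (c : F) :
    SpecialLinearGroup.transvection hak c ∈ lt3_psl_R F a := by
  rw [lt3_psl_mem_R, SpecialLinearGroup.transvection_coe]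
  refine ⟨fun i hi j => ?_, ?_⟩
  · rw [Matrix.add_apply, Matrix.single_apply_of_row_ne (Ne.symm hi), add_zero]
  · rw [Matrix.add_apply, Matrix.single_apply_of_col_ne _ _ (Ne.symm hak), add_zero,
      Matrix.one_apply_eq]

/-- entries of a matrix commuting with the row-`a` elementary matrices -/
theorem lt3_psl_comm_row {a : ι} (hex : ∃ k : ι, k ≠ a) {M : Matrix ι ι F}
    (h : ∀ k, k ≠ a → M * Matrix.single a k (1 : F) = Matrix.single a k (1 : F) * M) :
    (∀ i, i ≠ a → M i a = 0) ∧ (∀ j k, j ≠ a → k ≠ j → M j k = 0) ∧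
      (∀ j, j ≠ a → M j j = M a a) := by
  refine ⟨fun i hi => ?_, fun j k hj hkj => ?_, fun j hj => ?_⟩
  · obtain ⟨k, hk⟩ := hex
    have := congrFun (congrFun (h k hk) i) k
    rw [Matrix.mul_single_apply_same, Matrix.single_mul_apply_of_ne _ _ _ _ _ hi, mul_one] at this
    exact this
  · have := congrFun (congrFun (h j hj) a) k
    rw [Matrix.mul_single_apply_of_ne _ _ _ _ _ hkj, Matrix.single_mul_apply_same, one_mul] at this
    exact this.symm
  · have := congrFun (congrFun (h j hj) a) j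
    rw [Matrix.mul_single_apply_same, Matrix.single_mul_apply_same, one_mul, mul_one] at this
    exact this.symm

/-- a matrix commuting with the row group has the shape `r • (row matrix)` -/
theorem lt3_psl_centralizer_R_entries {a : ι} (hex : ∃ k : ι, k ≠ a) {g : SpecialLinearGroup ι F}
    (hg : g ∈ Subgroup.centralizer (lt3_psl_R F a : Set (SpecialLinearGroup ι F))) :
    (∀ i, i ≠ a → (g : Matrix ι ι F) i a = 0) ∧
      (∀ j k, j ≠ a → k ≠ j → (g : Matrix ι ι F) j k = 0) ∧
      (∀ j, j ≠ a → (g : Matrix ι ι F) j j = (g : Matrix ι ι F) a a) := by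
  apply lt3_psl_comm_row hex
  intro k hk
  have h1 := Subgroup.mem_centralizer_iff.mp hg _
    (lt3_psl_transvection_mem_R (F := F) (Ne.symm hk) 1)
  have h2 := congrArg (fun x : SpecialLinearGroup ι F => (x : Matrix ι ι F)) h1
  simp only [Matrix.SpecialLinearGroup.coe_mul, SpecialLinearGroup.transvection_coe] at h2
  rw [Matrix.add_mul, Matrix.mul_add, Matrix.one_mul, Matrix.mul_one] at h2
  exact (add_left_cancel h2).symm

/-- the stabiliser condition of the line `⟨e_a⟩` -/
def lt3_psl_St (a : ι) (M : Matrix ι ι F) : Prop := ∀ i, i ≠ a → M i a = 0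

theorem lt3_psl_St.of_inv {a : ι} {P N : Matrix ι ι F} (hNP : N * P = 1)
    (hP : lt3_psl_St a P) : lt3_psl_St a N := by
  have haa : N a a * P a a = 1 := by
    have := congrFun (congrFun hNP a) a
    rw [Matrix.mul_apply, Finset.sum_eq_single a, Matrix.one_apply_eq] at this
    · exact this
    · intro l _ hl
      rw [hP l hl, mul_zero]
    · intro h
      exact absurd (Finset.mem_univ a) h
  have hPaa : P a a ≠ 0 := right_ne_zero_of_mul_eq_one haa
  intro i hi
  have := congrFun (congrFun hNP i) a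
  rw [Matrix.mul_apply, Finset.sum_eq_single a, Matrix.one_apply_ne hi] at this
  · exact (mul_eq_zero.mp this).resolve_right hPaa
  · intro l _ hl
    rw [hP l hl, mul_zero]
  · intro h
    exact absurd (Finset.mem_univ a) h

/-- conjugation by a stabiliser element preserves the row shape -/
theorem lt3_psl_conj_IsR {a : ι} {P N D : Matrix ι ι F} (hPN : P * N = 1)
    (hP : lt3_psl_St a P) (hN : lt3_psl_St a N) (hD : lt3_psl_IsR a D) :
    lt3_psl_IsR a (P * D * N) := by
  have hE : ∀ i l, (P * (D - 1)) i l = P i a * (D - 1) a l := by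
    intro i l
    rw [Matrix.mul_apply, Finset.sum_eq_single a]
    · intro m _ hm
      rw [Matrix.sub_apply, hD.1 m hm, sub_self, mul_zero]
    · intro h
      exact absurd (Finset.mem_univ a) h
  have hdec : P * D * N = 1 + P * (D - 1) * N := by
    rw [Matrix.mul_sub, Matrix.mul_one, Matrix.sub_mul, hPN]
    abel
  refine ⟨fun i hi j => ?_, ?_⟩
  · rw [hdec, Matrix.add_apply, Matrix.mul_apply]
    simp only [hE, hP i hi, zero_mul, Finset.sum_const_zero, add_zero]
  · rw [hdec, Matrix.add_apply, Matrix.mul_apply, Matrix.one_apply_eq]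
    have : ∑ l, (P * (D - 1)) a l * N l a = 0 := by
      apply Finset.sum_eq_zero
      intro l _
      rw [hE]
      by_cases hl : l = a
      · rw [hl, Matrix.sub_apply, hD.2, Matrix.one_apply_eq, sub_self, mul_zero, zero_mul]
      · rw [hN l hl, mul_zero]
    rw [this, add_zero]

/-- stabiliser elements normalise the row group -/
theorem lt3_psl_mem_normalizer_R {a : ι} {g : SpecialLinearGroup ι F}
    (hg : lt3_psl_St a (g : Matrix ι ι F)) :
    g ∈ Subgroup.normalizer (lt3_psl_R F a : Set (SpecialLinearGroup ι F)) := by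
  have hg' : lt3_psl_St a ((g⁻¹ : SpecialLinearGroup ι F) : Matrix ι ι F) :=
    lt3_psl_St.of_inv (lt3_psl_coe_inv_mul g) hg
  rw [Subgroup.mem_normalizer_iff]
  intro h
  constructor
  · intro hh
    change lt3_psl_IsR a ((g * h * g⁻¹ : SpecialLinearGroup ι F) : Matrix ι ι F)
    rw [Matrix.SpecialLinearGroup.coe_mul, Matrix.SpecialLinearGroup.coe_mul]
    exact lt3_psl_conj_IsR (lt3_psl_coe_mul_inv g) hg hg' hh
  · intro hh
    have e : h = g⁻¹ * (g * h * g⁻¹) * g := by group
    rw [e]
    change lt3_psl_IsR a ((g⁻¹ * (g * h * g⁻¹) * g : SpecialLinearGroup ι F) : Matrix ι ι F)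
    rw [Matrix.SpecialLinearGroup.coe_mul, Matrix.SpecialLinearGroup.coe_mul]
    exact lt3_psl_conj_IsR (lt3_psl_coe_inv_mul g) hg' hg hh

/-! ### The column group, by transposition -/

/-- the column group: identity outside column `b` -/
def lt3_psl_C (F : Type*) [Field F] {ι : Type*} [Fintype ι] [DecidableEq ι] (b : ι) :
    Subgroup (SpecialLinearGroup ι F) where
  carrier := {g | lt3_psl_IsR b (g : Matrix ι ι F)ᵀ}
  mul_mem' := by
    intro g h hg hh
    change lt3_psl_IsR b ((g * h : SpecialLinearGroup ι F) : Matrix ι ι F)ᵀ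
    rw [Matrix.SpecialLinearGroup.coe_mul, Matrix.transpose_mul]
    exact hh.mul hg
  one_mem' := by
    change lt3_psl_IsR b ((1 : SpecialLinearGroup ι F) : Matrix ι ι F)ᵀ
    rw [Matrix.SpecialLinearGroup.coe_one, Matrix.transpose_one]
    exact lt3_psl_IsR.one b
  inv_mem' := by
    intro g hg
    refine lt3_psl_IsR.of_inv (M := (g : Matrix ι ι F)ᵀ) ?_ ?_ hg
    · rw [← Matrix.transpose_mul, lt3_psl_coe_inv_mul, Matrix.transpose_one]
    · rw [← Matrix.transpose_mul, lt3_psl_coe_mul_inv, Matrix.transpose_one]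

theorem lt3_psl_mem_C {b : ι} {g : SpecialLinearGroup ι F} :
    g ∈ lt3_psl_C F b ↔ lt3_psl_IsR b (g : Matrix ι ι F)ᵀ := Iff.rfl

theorem lt3_psl_transvection_mem_C {k b : ι} (hkb : k ≠ b) (c : F) :
    SpecialLinearGroup.transvection hkb c ∈ lt3_psl_C F b := by
  rw [lt3_psl_mem_C, SpecialLinearGroup.transvection_coe, Matrix.transpose_add,
    Matrix.transpose_one, Matrix.transpose_single]
  have := lt3_psl_transvection_mem_R (F := F) (Ne.symm hkb) c
  rwa [lt3_psl_mem_R, SpecialLinearGroup.transvection_coe] at this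

theorem lt3_psl_centralizer_C_entries {b : ι} (hex : ∃ k : ι, k ≠ b)
    {g : SpecialLinearGroup ι F}
    (hg : g ∈ Subgroup.centralizer (lt3_psl_C F b : Set (SpecialLinearGroup ι F))) :
    (∀ i, i ≠ b → (g : Matrix ι ι F) b i = 0) ∧
      (∀ j k, j ≠ b → k ≠ j → (g : Matrix ι ι F) k j = 0) ∧
      (∀ j, j ≠ b → (g : Matrix ι ι F) j j = (g : Matrix ι ι F) b b) := by
  have key := lt3_psl_comm_row (a := b) hex (M := (g : Matrix ι ι F)ᵀ) ?_
  · exact key
  intro k hk
  have h1 := Subgroup.mem_centralizer_iff.mp hg _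
    (lt3_psl_transvection_mem_C (F := F) hk 1)
  have h2 := congrArg (fun x : SpecialLinearGroup ι F => (x : Matrix ι ι F)ᵀ) h1
  simp only [Matrix.SpecialLinearGroup.coe_mul, SpecialLinearGroup.transvection_coe,
    Matrix.transpose_mul, Matrix.transpose_add, Matrix.transpose_one, Matrix.transpose_single] at h2
  rw [Matrix.add_mul, Matrix.mul_add, Matrix.one_mul, Matrix.mul_one] at h2
  exact add_left_cancel h2

/-- stabilisers of the hyperplane normalise the column group -/
theorem lt3_psl_mem_normalizer_C {b : ι} {g : SpecialLinearGroup ι F}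
    (hg : lt3_psl_St b (g : Matrix ι ι F)ᵀ) :
    g ∈ Subgroup.normalizer (lt3_psl_C F b : Set (SpecialLinearGroup ι F)) := by
  have e1 : ((g⁻¹ : SpecialLinearGroup ι F) : Matrix ι ι F)ᵀ * (g : Matrix ι ι F)ᵀ = 1 := by
    rw [← Matrix.transpose_mul, lt3_psl_coe_mul_inv, Matrix.transpose_one]
  have e2 : (g : Matrix ι ι F)ᵀ * ((g⁻¹ : SpecialLinearGroup ι F) : Matrix ι ι F)ᵀ = 1 := by
    rw [← Matrix.transpose_mul, lt3_psl_coe_inv_mul, Matrix.transpose_one]
  have hg' : lt3_psl_St b ((g⁻¹ : SpecialLinearGroup ι F) : Matrix ι ι F)ᵀ :=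
    lt3_psl_St.of_inv e1 hg
  rw [Subgroup.mem_normalizer_iff]
  intro h
  constructor
  · intro hh
    change lt3_psl_IsR b ((g * h * g⁻¹ : SpecialLinearGroup ι F) : Matrix ι ι F)ᵀ
    rw [Matrix.SpecialLinearGroup.coe_mul, Matrix.SpecialLinearGroup.coe_mul,
      Matrix.transpose_mul, Matrix.transpose_mul, ← Matrix.mul_assoc]
    exact lt3_psl_conj_IsR e1 hg' hg hh
  · intro hh
    have e : h = g⁻¹ * (g * h * g⁻¹) * g := by group
    rw [e]
    change lt3_psl_IsR b ((g⁻¹ * (g * h * g⁻¹) * g : SpecialLinearGroup ι F) : Matrix ι ι F)ᵀ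
    rw [Matrix.SpecialLinearGroup.coe_mul, Matrix.SpecialLinearGroup.coe_mul,
      Matrix.transpose_mul, Matrix.transpose_mul, ← Matrix.mul_assoc]
    exact lt3_psl_conj_IsR e2 hg hg' hh

/-! ### `ι = Fin (m + 1)`: the unitriangular Sylow subgroup -/

open Cfsg.Agent.Helper8.AutSLn

variable {m : ℕ}

theorem lt3_psl_R_le_UT : lt3_psl_R F (0 : Fin (m + 1)) ≤ UT F (m + 1) := by
  intro g hg
  rw [lt3_psl_mem_R] at hg
  refine ⟨fun i j hji => ?_, fun i => ?_⟩
  · change j < i at hji
    have hi : i ≠ 0 := fun h => by rw [h] at hji; exact absurd hji (Fin.not_lt_zero j)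
    rw [hg.1 i hi, Matrix.one_apply_ne hji.ne']
  · by_cases hi : i = 0
    · rw [hi]; exact hg.2
    · rw [hg.1 i hi, Matrix.one_apply_eq]

theorem lt3_psl_C_le_UT : lt3_psl_C F (Fin.last m) ≤ UT F (m + 1) := by
  intro g hg
  rw [lt3_psl_mem_C] at hg
  refine ⟨fun i j hji => ?_, fun i => ?_⟩
  · change j < i at hji
    have hj : j ≠ Fin.last m := fun h => by
      rw [h] at hji
      exact absurd hji (not_lt.mpr (Fin.le_last i))
    have := hg.1 j hj i
    rw [Matrix.transpose_apply] at this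
    rw [this, Matrix.one_apply_ne hji.ne]
  · by_cases hi : i = Fin.last m
    · rw [hi]
      have := hg.2
      rwa [Matrix.transpose_apply] at this
    · have := hg.1 i hi i
      rw [Matrix.transpose_apply] at this
      rw [this, Matrix.one_apply_eq]

/-- an element of `SL` with constant diagonal `r`, upper triangular, splits as (scalar) * (rest) -/
theorem lt3_psl_split {g : SpecialLinearGroup (Fin (m + 1)) F} (r : F)
    (hup : (g : Matrix (Fin (m + 1)) (Fin (m + 1)) F).BlockTriangular id)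
    (hdiag : ∀ i, (g : Matrix (Fin (m + 1)) (Fin (m + 1)) F) i i = r) :
    ∃ z d : SpecialLinearGroup (Fin (m + 1)) F,
      z ∈ Subgroup.center (SpecialLinearGroup (Fin (m + 1)) F) ∧ g = z * d ∧
      (d : Matrix (Fin (m + 1)) (Fin (m + 1)) F) =
        r⁻¹ • (g : Matrix (Fin (m + 1)) (Fin (m + 1)) F) := by
  have hdet : r ^ (m + 1) = 1 := by
    have h1 := g.2
    rw [Matrix.det_of_isUpperTriangular hup] at h1
    simp only [hdiag, Finset.prod_const, Finset.card_univ, Fintype.card_fin] at h1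
    exact h1
  have hr : r ≠ 0 := by
    intro h0
    rw [h0, zero_pow (Nat.succ_ne_zero m)] at hdet
    exact zero_ne_one hdet
  have hz : (r • (1 : Matrix (Fin (m + 1)) (Fin (m + 1)) F)).det = 1 := by
    rw [Matrix.det_smul, Matrix.det_one, mul_one, Fintype.card_fin, hdet]
  have hd : (r⁻¹ • (g : Matrix (Fin (m + 1)) (Fin (m + 1)) F)).det = 1 := by
    rw [Matrix.det_smul, g.2, mul_one, Fintype.card_fin, inv_pow, hdet, inv_one]
  have hzc : (⟨r • 1, hz⟩ : SpecialLinearGroup (Fin (m + 1)) F) ∈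
      Subgroup.center (SpecialLinearGroup (Fin (m + 1)) F) := by
    refine Matrix.SpecialLinearGroup.mem_center_iff.mpr ⟨r, by rw [Fintype.card_fin, hdet], ?_⟩
    rw [Matrix.scalar_apply, ← Matrix.smul_one_eq_diagonal]
  refine ⟨_, (⟨_, hd⟩ : SpecialLinearGroup (Fin (m + 1)) F), hzc, ?_, rfl⟩
  apply Subtype.ext
  change (g : Matrix (Fin (m + 1)) (Fin (m + 1)) F) =
    (r • (1 : Matrix (Fin (m + 1)) (Fin (m + 1)) F)) *
      (r⁻¹ • (g : Matrix (Fin (m + 1)) (Fin (m + 1)) F))
  rw [Matrix.smul_mul, Matrix.one_mul, smul_smul, mul_inv_cancel₀ hr, one_smul]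

/-- `C_X(R_0) ≤ U · Z(X)` -/
theorem lt3_psl_centralizer_R_le (hm : 1 ≤ m) :
    Subgroup.centralizer (lt3_psl_R F (0 : Fin (m + 1)) : Set (SpecialLinearGroup (Fin (m + 1)) F)) ≤
      UT F (m + 1) ⊔ Subgroup.center (SpecialLinearGroup (Fin (m + 1)) F) := by
  intro g hg
  have hex : ∃ k : Fin (m + 1), k ≠ 0 := ⟨Fin.last m, by
    intro h
    have := congrArg Fin.val h
    simp at this
    omega⟩
  obtain ⟨h1, h2, h3⟩ := lt3_psl_centralizer_R_entries hex hg
  set r := (g : Matrix (Fin (m + 1)) (Fin (m + 1)) F) 0 0 with hr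
  have hup : (g : Matrix (Fin (m + 1)) (Fin (m + 1)) F).BlockTriangular id := by
    intro i j hji
    change j < i at hji
    have hi : i ≠ 0 := fun h => by rw [h] at hji; exact absurd hji (Fin.not_lt_zero j)
    exact h2 i j hi hji.ne
  have hdiag : ∀ i, (g : Matrix (Fin (m + 1)) (Fin (m + 1)) F) i i = r := by
    intro i
    by_cases hi : i = 0
    · rw [hi]
    · exact h3 i hi
  obtain ⟨z, d, hz, hgd, hd⟩ := lt3_psl_split r hup hdiag
  have hr0 : r ≠ 0 := by
    intro h0
    have h1' := g.2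
    rw [Matrix.det_of_isUpperTriangular hup] at h1'
    simp only [hdiag, h0, Finset.prod_const, Finset.card_univ, Fintype.card_fin] at h1'
    rw [zero_pow (Nat.succ_ne_zero m)] at h1'
    exact zero_ne_one h1'
  have hdR : d ∈ lt3_psl_R F (0 : Fin (m + 1)) := by
    rw [lt3_psl_mem_R, hd]
    refine ⟨fun i hi j => ?_, ?_⟩
    · rw [Matrix.smul_apply, smul_eq_mul]
      by_cases hij : j = i
      · rw [hij, hdiag, inv_mul_cancel₀ hr0, Matrix.one_apply_eq]
      · rw [h2 i j hi hij, mul_zero, Matrix.one_apply_ne (Ne.symm hij)]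
    · rw [Matrix.smul_apply, smul_eq_mul, ← hr, inv_mul_cancel₀ hr0]
  rw [hgd]
  exact Subgroup.mul_mem _ (Subgroup.mem_sup_right hz) (Subgroup.mem_sup_left (lt3_psl_R_le_UT hdR))

/-- `C_X(C_last) ≤ U · Z(X)` -/
theorem lt3_psl_centralizer_C_le (hm : 1 ≤ m) :
    Subgroup.centralizer (lt3_psl_C F (Fin.last m) : Set (SpecialLinearGroup (Fin (m + 1)) F)) ≤
      UT F (m + 1) ⊔ Subgroup.center (SpecialLinearGroup (Fin (m + 1)) F) := by
  intro g hg
  have hex : ∃ k : Fin (m + 1), k ≠ Fin.last m := ⟨0, by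
    intro h
    have := congrArg Fin.val h
    simp at this
    omega⟩
  obtain ⟨h1, h2, h3⟩ := lt3_psl_centralizer_C_entries hex hg
  set r := (g : Matrix (Fin (m + 1)) (Fin (m + 1)) F) (Fin.last m) (Fin.last m) with hr
  have hup : (g : Matrix (Fin (m + 1)) (Fin (m + 1)) F).BlockTriangular id := by
    intro i j hji
    change j < i at hji
    have hj : j ≠ Fin.last m := fun h => by
      rw [h] at hji
      exact absurd hji (not_lt.mpr (Fin.le_last i))
    exact h2 j i hj hji.ne'
  have hdiag : ∀ i, (g : Matrix (Fin (m + 1)) (Fin (m + 1)) F) i i = r := by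
    intro i
    by_cases hi : i = Fin.last m
    · rw [hi]
    · exact h3 i hi
  obtain ⟨z, d, hz, hgd, hd⟩ := lt3_psl_split r hup hdiag
  have hr0 : r ≠ 0 := by
    intro h0
    have h1' := g.2
    rw [Matrix.det_of_isUpperTriangular hup] at h1'
    simp only [hdiag, h0, Finset.prod_const, Finset.card_univ, Fintype.card_fin] at h1'
    rw [zero_pow (Nat.succ_ne_zero m)] at h1'
    exact zero_ne_one h1'
  have hdC : d ∈ lt3_psl_C F (Fin.last m) := by
    rw [lt3_psl_mem_C, hd]
    refine ⟨fun i hi j => ?_, ?_⟩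
    · rw [Matrix.transpose_apply, Matrix.smul_apply, smul_eq_mul]
      by_cases hij : j = i
      · rw [hij, hdiag, inv_mul_cancel₀ hr0, Matrix.one_apply_eq]
      · rw [h2 i j hi hij, mul_zero, Matrix.one_apply_ne (Ne.symm hij)]
    · rw [Matrix.transpose_apply, Matrix.smul_apply, smul_eq_mul, ← hr, inv_mul_cancel₀ hr0]
  rw [hgd]
  exact Subgroup.mul_mem _ (Subgroup.mem_sup_right hz) (Subgroup.mem_sup_left (lt3_psl_C_le_UT hdC))

/-- the two normalisers generate `SL_{m+1}(F)`, `m ≥ 2` -/
theorem lt3_psl_normalizers_sup (hm : 2 ≤ m) :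
    Subgroup.normalizer (lt3_psl_R F (0 : Fin (m + 1)) : Set (SpecialLinearGroup (Fin (m + 1)) F)) ⊔
      Subgroup.normalizer (lt3_psl_C F (Fin.last m) : Set (SpecialLinearGroup (Fin (m + 1)) F)) =
      ⊤ := by
  have : Nontrivial (Fin (m + 1)) := Fin.nontrivial_iff_two_le.mpr (by omega)
  rw [eq_top_iff]
  intro M _
  -- transvections off column `0` normalise `R_0`
  have hR : ∀ (i j : Fin (m + 1)) (hij : i ≠ j) (c : F), j ≠ 0 →
      SpecialLinearGroup.transvection hij c ∈ Subgroup.normalizer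
        (lt3_psl_R F (0 : Fin (m + 1)) : Set (SpecialLinearGroup (Fin (m + 1)) F)) := by
    intro i j hij c hj
    apply lt3_psl_mem_normalizer_R
    intro i' hi'
    rw [SpecialLinearGroup.transvection_coe, Matrix.add_apply, Matrix.one_apply_ne hi',
      Matrix.single_apply_of_col_ne _ _ hj, add_zero]
  -- transvections off row `last` normalise `C_last`
  have hC : ∀ (i j : Fin (m + 1)) (hij : i ≠ j) (c : F), i ≠ Fin.last m →
      SpecialLinearGroup.transvection hij c ∈ Subgroup.normalizer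
        (lt3_psl_C F (Fin.last m) : Set (SpecialLinearGroup (Fin (m + 1)) F)) := by
    intro i j hij c hi
    apply lt3_psl_mem_normalizer_C
    intro i' hi'
    rw [SpecialLinearGroup.transvection_coe, Matrix.transpose_apply, Matrix.add_apply,
      Matrix.one_apply_ne (Ne.symm hi'), Matrix.single_apply_of_row_ne hi, add_zero]
  refine Cfsg.Agent.Helper7.Transv.transvection_induction
    (fun M => M ∈ Subgroup.normalizer
        (lt3_psl_R F (0 : Fin (m + 1)) : Set (SpecialLinearGroup (Fin (m + 1)) F)) ⊔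
      Subgroup.normalizer (lt3_psl_C F (Fin.last m) : Set (SpecialLinearGroup (Fin (m + 1)) F)))
    ?_ ?_ M
  · intro i j hij c
    by_cases hj : j = 0
    · by_cases hi : i = Fin.last m
      · -- the missing transvection is a commutator
        subst hj hi
        have h1ne0 : (1 : Fin (m + 1)) ≠ 0 := by
          intro h
          have := congrArg Fin.val h
          rw [Fin.val_one', Fin.val_zero] at this
          have : 1 % (m + 1) = 1 := Nat.mod_eq_of_lt (by omega)
          omega
        have h1nel : Fin.last m ≠ (1 : Fin (m + 1)) := by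
          intro h
          have := congrArg Fin.val h
          rw [Fin.val_one', Fin.val_last] at this
          have : 1 % (m + 1) = 1 := Nat.mod_eq_of_lt (by omega)
          omega
        rw [← Cfsg.Agent.Helper7.Transv.commutator_transvection hij h1nel h1ne0 c,
          commutatorElement_def]
        have a1 := Subgroup.mem_sup_left (hR (Fin.last m) 1 h1nel c h1ne0)
          (T := Subgroup.normalizer
            (lt3_psl_C F (Fin.last m) : Set (SpecialLinearGroup (Fin (m + 1)) F)))
        have a2 := Subgroup.mem_sup_right (hC 1 0 h1ne0 1 (Ne.symm h1nel))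
          (S := Subgroup.normalizer
            (lt3_psl_R F (0 : Fin (m + 1)) : Set (SpecialLinearGroup (Fin (m + 1)) F)))
        exact Subgroup.mul_mem _ (Subgroup.mul_mem _ (Subgroup.mul_mem _ a1 a2)
          (Subgroup.inv_mem _ a1)) (Subgroup.inv_mem _ a2)
      · exact Subgroup.mem_sup_right (hC i j hij c hi)
    · exact Subgroup.mem_sup_left (hR i j hij c hj)
  · intro A B hA hB
    exact Subgroup.mul_mem _ hA hB

/-- the centre of `SL_n(F)` has no nontrivial `p`-elements in characteristic `p` -/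
theorem lt3_psl_center_no_p [Fintype F] (p : ℕ) [Fact p.Prime] [CharP F p]
    (z : SpecialLinearGroup ι F) (hz : z ∈ Subgroup.center (SpecialLinearGroup ι F)) (k : ℕ)
    (hk : z ^ p ^ k = 1) : z = 1 := by
  rw [Matrix.SpecialLinearGroup.mem_center_iff] at hz
  obtain ⟨r, -, hr⟩ := hz
  have h1 : ((z ^ p ^ k : SpecialLinearGroup ι F) : Matrix ι ι F) = 1 := by
    rw [hk, Matrix.SpecialLinearGroup.coe_one]
  rw [Matrix.SpecialLinearGroup.coe_pow, ← hr, Matrix.scalar_apply, Matrix.diagonal_pow] at h1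
  apply Subtype.ext
  rw [Matrix.SpecialLinearGroup.coe_one, ← hr, Matrix.scalar_apply]
  by_cases hemp : IsEmpty ι
  · ext i j
    exact (hemp.false i).elim
  rw [not_isEmpty_iff] at hemp
  obtain ⟨i⟩ := hemp
  have h2 := congrFun (congrFun h1 i) i
  rw [Matrix.diagonal_apply_eq, Matrix.one_apply_eq] at h2
  have h3 : (r - 1) ^ p ^ k = 0 := by
    rw [sub_pow_char_pow, one_pow]
    change r ^ p ^ k - 1 = 0
    have : (fun _ : ι => r) i ^ p ^ k = 1 := by simpa using h2
    rw [sub_eq_zero]
    exact this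
  have h4 : r = 1 := sub_eq_zero.mp (pow_eq_zero_iff
    (pow_ne_zero k (Fact.out : p.Prime).ne_zero) |>.mp h3)
  rw [h4]
  exact Matrix.diagonal_one

/-- **S4613 for `PSL_n(F)`, `n ≥ 3`.** -/
theorem lt3_psl [Fintype F] (p : ℕ) [Fact p.Prime] [CharP F p] (n : ℕ) (hn : 3 ≤ n) :
    lt3q_P p (Matrix.ProjectiveSpecialLinearGroup (Fin n) F) := by
  obtain ⟨m, rfl⟩ : ∃ m, n = m + 1 := ⟨n - 1, by omega⟩
  have hm : 2 ≤ m := by omega
  let U : Sylow p (SpecialLinearGroup (Fin (m + 1)) F) :=
    (isPGroup_UT (F := F) (k := m + 1) p).toSylow (not_dvd_index_UT p (m + 1))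
  have hU : (U : Subgroup (SpecialLinearGroup (Fin (m + 1)) F)) = UT F (m + 1) := rfl
  refine lt3q_quot p (Subgroup.center (SpecialLinearGroup (Fin (m + 1)) F)) le_rfl
    (lt3_psl_center_no_p p) U
    (fun b : Bool => cond b (lt3_psl_R F (0 : Fin (m + 1))) (lt3_psl_C F (Fin.last m))) ?_ ?_ ?_
  · intro b
    rw [hU]
    cases b
    · exact lt3_psl_C_le_UT
    · exact lt3_psl_R_le_UT
  · intro b
    rw [hU]
    cases b
    · exact lt3_psl_centralizer_C_le (by omega)
    · exact lt3_psl_centralizer_R_le (by omega)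
  · rw [iSup_bool_eq]
    exact lt3_psl_normalizers_sup hm

end Cfsg.Agent.LT3
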