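import Mathlib
import Cfsg.Prelude.Def_LieTypeChar
import Cfsg.Agent.LT3.TwE6D4BN
import Cfsg.Agent.LT3.TwE6D4Syl
import Cfsg.Agent.LT3.BNf

set_option autoImplicit false

/-!
S4613 (swarm LT3): the `IsTwistedE6D4Char` disjunct (²E₆ and ³D₄), assembly-ready: helper3's BN-pair
data `lt3_e6_bn`/`lt3_d4_bn`, helper5's Sylow facts `lt3_e6_syl`/`lt3_d4_syl`, and the generic theorem
`lt3bn_main_iso`.
-/

namespace Cfsg.Agent.LT3

open Cfsg Cfsg.Lie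

/-- the `IsTwistedE6D4Char p G` disjunct of `IsLieTypeChar`: assembly-ready. -/
theorem lt3_e6d4_iso_h2 {G : Type*} [Group G] [Finite G] [IsSimpleGroup G] (p : ℕ) [Fact p.Prime]
    (hG : Cfsg.IsTwistedE6D4Char p G) : lt3q_P p G := by
  obtain ⟨K, _, _, _, q, hq, h⟩ := hG
  rcases h with ⟨hK, he⟩ | ⟨hK, he⟩
  · obtain ⟨e⟩ := he
    exact lt3bn_main_iso (lt3_e6_bn hq hK p (lt3_e6_syl p hq hK)) e.symm
  · obtain ⟨e⟩ := he
    exact lt3bn_main_iso (lt3_d4_bn hq hK p (lt3_d4_syl p hq hK)) e.symm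

end Cfsg.Agent.LT3
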