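import Mathlib
import Cfsg.Prelude.Def_LieTypeChar
import Cfsg.Agent.LT3.BNf
import Cfsg.Agent.LT3.PSLn
import Cfsg.Agent.LT3.PSL2
import Cfsg.Agent.LT3.PSp
import Cfsg.Agent.LT3.PSU
import Cfsg.Agent.LT3.POmegaH8
import Cfsg.Agent.LT3.ChevFam
import Cfsg.Agent.LT3.TwE6D4Fam
import Cfsg.Agent.LT3.Sz
import Cfsg.Agent.LT3.F4Data
import Cfsg.Agent.LT3.Ree

set_option autoImplicit false

/-!
S4613 (swarm LT3): the assembly over the sixteen families of `IsLieTypeChar p G` (spare of helper2;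
the official assembly is helper3's `LT3/Main.lean`).
-/

namespace Cfsg.Agent.LT3

open Cfsg

/-- a finite simple group of Lie type in characteristic `p` satisfies the conclusion of S4613. -/
theorem lt3_main_h2 {G : Type*} [Group G] [Finite G] [IsSimpleGroup G] (p : ℕ) [Fact p.Prime]
    (hG : Cfsg.IsLieTypeChar p G) : lt3q_P p G := by
  rcases hG with h | h | h | h | h | h | h | h | h | h | h
  · -- PSL
    obtain ⟨F, _, _, _, n, hn, -, he⟩ := h
    obtain ⟨e⟩ := he
    by_cases h3 : 3 ≤ n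
    · exact lt3q_of_iso p e (lt3_psl p n h3)
    · obtain rfl : n = 2 := by omega
      have : IsSimpleGroup (Matrix.ProjectiveSpecialLinearGroup (Fin 2) F) := e.symm.isSimpleGroup
      exact lt3q_of_iso p e (lt3_psl_two p)
  · -- PSp
    obtain ⟨F, _, _, _, m, hm, -, he⟩ := h
    obtain ⟨e⟩ := he
    exact lt3_psp_iso p m (by omega) e
  · -- PSU
    obtain ⟨F, _, _, _, n, q, hF, hn, -, he⟩ := h
    obtain ⟨e⟩ := he
    obtain ⟨_, hdata, π, hπ, hker⟩ := lt3_psu_cover p n q hF (by omega)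
    refine lt3bn_main_cover hdata (e.symm.toMonoidHom.comp π) (e.symm.surjective.comp hπ) ?_
    intro x hx
    apply hker
    rw [MonoidHom.mem_ker] at hx ⊢
    have h1 : e.symm (π x) = 1 := hx
    exact (MulEquiv.map_eq_one_iff e.symm).mp h1
  · exact lt3_oo_h8 p h
  · exact lt3_op_h8 p h
  · exact lt3_om_h8 p h
  · exact lt3_chev_iso p h
  · exact lt3_e6d4_iso_h2 p h
  · obtain ⟨rfl, h⟩ := h
    exact lt3_sz_iso_h8 h
  · obtain ⟨rfl, h⟩ := h
    exact lt3_f4_iso h
  · obtain ⟨rfl, h⟩ := h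
    exact lt3_ree_iso_h8 h

end Cfsg.Agent.LT3
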