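import Mathlib
import Cfsg.Agent.LT3.PSU
import Cfsg.Agent.LT3.BNf
import Cfsg.Prelude.Def_LieTypeChar

set_option autoImplicit false

/-!
S4613 swarm "LT3", family `PSU_n`: a finite simple group isomorphic to `PSU_n(q)`, `n ≥ 3`, over a
field of characteristic `p` satisfies the conclusion of `S4613`.
-/

namespace Cfsg.Agent.LT3

open Cfsg Cfsg.Agent.Helper1.SUJ

/-- **S4613 for the unitary family.** -/
theorem lt3_psu_h9 {G : Type*} [Group G] [Finite G] [IsSimpleGroup G] (p : ℕ) [Fact p.Prime]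
    (hG : Cfsg.IsPSUChar p G) : lt3q_P p G := by
  obtain ⟨F, _, _, _, n, q, hF, hn, -, ⟨e⟩⟩ := hG
  obtain ⟨_, hdata, π, hπ, hker⟩ := lt3_psu_cover (F := F) p n q hF (by omega)
  refine lt3bn_main_cover hdata (e.symm.toMonoidHom.comp π) (e.symm.surjective.comp hπ) ?_
  intro x hx
  apply hker
  rw [MonoidHom.mem_ker] at hx ⊢
  have h1 : e.symm (π x) = e.symm 1 := by
    rw [map_one]
    exact hx
  exact e.symm.injective h1

end Cfsg.Agent.LT3
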