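import Mathlib

set_option autoImplicit false

/-!
Rank one: an automorphism of `p'`-order of a group acting faithfully on a set `Ω`, fixing
pointwise the stabiliser `B` of a point `∞`, where a `p`-subgroup `U ≤ B` is transitive on
`Ω ∖ {∞}`, is trivial.
-/

namespace Cfsg.Agent.LT3

open MulAction

variable {G : Type*} [Group G] {Ω : Type*} [MulAction G Ω]

/-- Iterating an automorphism fixing `u` and `b` on `u * g * b`. -/
theorem lt3r_iterate (α : MulAut G) {u g b : G} (hu : α u = u) (hb : α b = b)
    (hg : α g = u * g * b) : ∀ k : ℕ, (α ^ k) g = u ^ k * g * b ^ k := by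
  intro k
  induction k with
  | zero => simp
  | succ k ih =>
    rw [pow_succ', MulAut.mul_apply, ih, map_mul, map_mul, map_pow, map_pow, hu, hb, hg,
      pow_succ', pow_succ]
    group

/-- **Rank one lemma.** -/
theorem lt3r_rank_one [FaithfulSMul G Ω] (p : ℕ) [hp : Fact p.Prime] (α : MulAut G)
    (hα : ¬ p ∣ orderOf α) (pt : Ω) (U : Subgroup G) (hU : IsPGroup p U)
    (hUB : U ≤ stabilizer G pt)
    (htrans : ∀ ω ω' : Ω, ω ≠ pt → ω' ≠ pt → ∃ u ∈ U, u • ω = ω')
    (hmove : ∀ ω : Ω, ∃ g : G, g • pt = ω)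
    (hfix : ∀ b ∈ stabilizer G pt, α b = b) : α = 1 := by
  have hk0 : orderOf α ≠ 0 := by
    intro h
    rw [h] at hα
    exact hα (dvd_zero p)
  -- `α g` and `g` move `pt` to the same point
  have hsame : ∀ g : G, (α g) • pt = g • pt := by
    intro g
    by_cases hg : g • pt = pt
    · rw [hfix g hg]
    · have hαg : (α g) • pt ≠ pt := by
        intro h
        have h1 : α (α g) = α g := hfix _ h
        have h2 : α g = g := α.injective h1
        rw [h2] at h
        exact hg h
      obtain ⟨u, hu, hug⟩ := htrans (g • pt) ((α g) • pt) hg hαg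
      -- `b := (u * g)⁻¹ * α g` fixes `pt`
      set b := (u * g)⁻¹ * α g with hb
      have hbB : b ∈ stabilizer G pt := by
        rw [mem_stabilizer_iff, hb, mul_smul, ← hug, ← mul_smul u g, inv_smul_smul]
      have hαg' : α g = u * g * b := by
        rw [hb]; group
      have hαu : α u = u := hfix u (hUB hu)
      have hαb : α b = b := hfix b hbB
      have hit := lt3r_iterate α hαu hαb hαg' (orderOf α)
      rw [pow_orderOf_eq_one, MulAut.one_apply] at hit
      -- `u ^ k` fixes `g • pt`
      have huk : (u ^ orderOf α) • (g • pt) = g • pt := by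
        have h1 : u ^ orderOf α = g * (b ^ orderOf α)⁻¹ * g⁻¹ := by
          have h2 : u ^ orderOf α * g * b ^ orderOf α = g := hit.symm
          have h3 : u ^ orderOf α = g * (b ^ orderOf α)⁻¹ * g⁻¹ := by
            calc u ^ orderOf α = (u ^ orderOf α * g * b ^ orderOf α) * (b ^ orderOf α)⁻¹ * g⁻¹ := by
                  group
              _ = g * (b ^ orderOf α)⁻¹ * g⁻¹ := by rw [h2]
          exact h3
        have hbk : (b ^ orderOf α)⁻¹ ∈ stabilizer G pt :=
          Subgroup.inv_mem _ (Subgroup.pow_mem _ hbB _)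
        rw [h1, ← mul_smul, mul_assoc, mul_assoc, inv_mul_cancel, mul_one, mul_smul]
        congr 1
      -- `u` is a power of `u ^ k`
      obtain ⟨j, hj⟩ := hU ⟨u, hu⟩
      have huj : u ^ p ^ j = 1 := congrArg Subtype.val hj
      have hcop : Nat.Coprime (orderOf α) (p ^ j) :=
        Nat.Coprime.pow_right j ((Nat.Prime.coprime_iff_not_dvd hp.out).2 hα).symm
      have hu' : u • (g • pt) = g • pt := by
        have hmem : u ^ orderOf α ∈ stabilizer G (g • pt) := huk
        have hord : orderOf u ∣ p ^ j := orderOf_dvd_of_pow_eq_one huj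
        have hcop' : Nat.Coprime (orderOf u) (orderOf α) :=
          (Nat.Coprime.coprime_dvd_left hord hcop.symm)
        obtain ⟨m, hm⟩ := exists_pow_eq_self_of_coprime (x := u) hcop'.symm
        have hmem' : (u ^ orderOf α) ^ m ∈ stabilizer G (g • pt) := Subgroup.pow_mem _ hmem m
        rw [hm] at hmem'
        exact hmem'
      rw [← hug, hu']
  -- so `g⁻¹ * α g` fixes every point
  ext g
  rw [MulAut.one_apply]
  have hz : ∀ h : G, (g⁻¹ * α g) • (h • pt) = h • pt := by
    intro h
    have h1 : (α (g * h)) • pt = (g * h) • pt := hsame (g * h)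
    have h2 : (α h) • pt = h • pt := hsame h
    rw [map_mul, mul_smul, h2] at h1
    rw [mul_smul, h1, ← mul_smul, ← mul_assoc, inv_mul_cancel, one_mul]
  have hall : ∀ ω : Ω, (g⁻¹ * α g) • ω = (1 : G) • ω := by
    intro ω
    obtain ⟨h, rfl⟩ := hmove ω
    rw [hz h, one_smul]
  have h1 : g⁻¹ * α g = 1 := FaithfulSMul.eq_of_smul_eq_smul hall
  exact (inv_mul_eq_one.1 h1).symm

end Cfsg.Agent.LT3
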