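import Mathlib
import Cfsg.Agent.LT3.Gen
import Cfsg.Agent.LT3.Quot
import Cfsg.Agent.Helper7.SzAutC
import Cfsg.Agent.Helper7.SzLie

set_option autoImplicit false

/-!
S4613 for the Suzuki groups: a Sylow `2`-subgroup is transitive on the other Sylow
`2`-subgroups (rank one), so the rank-one criterion `lt3_of_good1` applies.
-/

namespace Cfsg.Agent.LT3

open MulAction Cfsg.Agent.Helper7 Cfsg.Agent.Helper7.Sz

/-- The rank-one predicate from a `TwoTransSylow.Setup`. -/
theorem lt3sz_good1_of_setup {G Ω : Type*} [Group G] [Finite G] [MulAction G Ω] {ω₀ : Ω}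
    {U : Subgroup G} (hS : TwoTransSylow.Setup G Ω ω₀ U)
    (hcard : Nat.card U = 2 ^ (Nat.card G).factorization 2) : lt3_Good1 2 G := by
  have : Fact (Nat.Prime 2) := ⟨Nat.prime_two⟩
  obtain ⟨S, -, hN, -, hreg⟩ := hS.main hcard
  refine ⟨S, ?_, ?_⟩
  · -- another Sylow subgroup
    obtain ⟨x, hx⟩ := hS.ne
    obtain ⟨g, hg, -⟩ := (is_two_pretransitive_iff.1 hS.two) hx.symm hx
    refine ⟨g • S, ?_⟩
    intro h
    have h' : g ∈ Subgroup.normalizer ((S : Subgroup G) : Set G) :=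
      Sylow.smul_eq_iff_mem_normalizer.1 h
    rw [hN, mem_stabilizer_iff] at h'
    rw [h'] at hg
    exact hx hg.symm
  · intro Q Q' hQ hQ'
    obtain ⟨g, rfl⟩ := MulAction.exists_smul_eq G S Q
    obtain ⟨g', rfl⟩ := MulAction.exists_smul_eq G S Q'
    have hg : g ∉ Subgroup.normalizer ((S : Subgroup G) : Set G) :=
      fun h => hQ (Sylow.smul_eq_iff_mem_normalizer.2 h)
    have hg' : g' ∉ Subgroup.normalizer ((S : Subgroup G) : Set G) :=
      fun h => hQ' (Sylow.smul_eq_iff_mem_normalizer.2 h)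
    have hx : (QuotientGroup.mk g : G ⧸ Subgroup.normalizer ((S : Subgroup G) : Set G)) ≠
        QuotientGroup.mk 1 := by
      intro h
      apply hg
      have := QuotientGroup.eq.1 h
      rw [mul_one] at this
      exact (Subgroup.inv_mem_iff _).1 this
    have hy : (QuotientGroup.mk g' : G ⧸ Subgroup.normalizer ((S : Subgroup G) : Set G)) ≠
        QuotientGroup.mk 1 := by
      intro h
      apply hg'
      have := QuotientGroup.eq.1 h
      rw [mul_one] at this
      exact (Subgroup.inv_mem_iff _).1 this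
    obtain ⟨s, hs, -⟩ := hreg _ _ hx hy
    refine ⟨(s : G), s.2, ?_⟩
    have h1 : (QuotientGroup.mk ((s : G) * g) :
        G ⧸ Subgroup.normalizer ((S : Subgroup G) : Set G)) = QuotientGroup.mk g' := hs
    have h2 : ((s : G) * g)⁻¹ * g' ∈ Subgroup.normalizer ((S : Subgroup G) : Set G) :=
      QuotientGroup.eq.1 h1
    have h3 : (((s : G) * g)⁻¹ * g') • S = S := Sylow.smul_eq_iff_mem_normalizer.2 h2
    calc (s : G) • g • S = ((s : G) * g) • S := (mul_smul _ _ _).symm
      _ = ((s : G) * g) • ((((s : G) * g)⁻¹ * g') • S) := by rw [h3]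
      _ = g' • S := by rw [← mul_smul, mul_inv_cancel_left]

/-- The Suzuki groups `Cfsg.Sz F m` satisfy the rank-one predicate. -/
theorem lt3sz_good1 {F : Type*} [Field F] [Fintype F] {m : ℕ} (h : FH F m) :
    lt3_Good1 2 (Cfsg.Sz F m) :=
  lt3sz_good1_of_setup (setup h) (card_Usub_eq h)

/-- **S4613 for the Suzuki groups.** -/
theorem lt3sz_P {G : Type*} [Group G] [Finite G] [IsSimpleGroup G] (hG : Cfsg.Lie.IsoSuzuki G) :
    lt3q_P 2 G := by
  have : Fact (Nat.Prime 2) := ⟨Nat.prime_two⟩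
  obtain ⟨F, hField, hFin, m, hm, hcard, ⟨e⟩⟩ := hG
  have h : FH F m := ⟨hm, hcard⟩
  let e' : G ≃* Cfsg.Sz F m := e.trans (SzLie.lieEquiv h).symm
  have : IsSimpleGroup (Cfsg.Sz F m) := e'.symm.isSimpleGroup
  refine lt3q_of_iso 2 e' ?_
  intro α hα V hfix
  exact lt3_of_good1 2 (lt3sz_good1 h) α hα V hfix

end Cfsg.Agent.LT3
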